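import Groth.Agent.EtDual.K336.GlobBase
import Groth.Agent.Sga2lef.H91.ModOf
import Groth.Agent.Sga5.H856.HYStalk
import Groth.Agent.Sga4h.LFinClass
import Groth.Agent.Sga4h.LFinSupp
import Groth.Agent.Sga4h.IntPushZero

/-!
# Sheaves supported above the closed point

`f : X ⟶ S = Spec A` with closed points lying over the closed point: if `N` is supported at the closed points of `X`
and `Hom(f⁻¹ (ip_* Λ), N) = 0` then `Hom(Λ, N) = 0` (`hZ`).
-/

set_option autoImplicit false
set_option linter.unusedSectionVars false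
universe u

open CategoryTheory CategoryTheory.Limits AlgebraicGeometry Opposite

attribute [local instance 5000] CategoryTheory.Abelian.toPreadditive
  CategoryTheory.Preadditive.preadditiveHasZeroMorphisms

namespace Groth.Agent.EtDual.K336.GlobS

attribute [local instance] HasDerivedCategory.standard
attribute [-instance] ULift.ring
open scoped Groth.Agent.Sga4h.ModInst
open Groth.Agent.Sga4h Groth.Agent.Sga4h.Refl DerivedCategory
open Groth.Agent.Sga4h.BidIndD48 Groth.Agent.Sga4h.BidIndLoc48 Groth.Agent.Sga4h.BidLoc48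
open Groth.Agent.Sga4h.BidRed538Main Groth.Agent.EtDual.K336.StrictS Groth.Agent.EtDual.K336.StrictAbs

section Zcons

variable {A : Type u} [CommRing A] [HenselianLocalRing A] [IsSepClosed (IsLocalRing.ResidueField A)]
  {n : ℕ} [NeZero n] {X : Scheme.{u}} (f : X ⟶ Spec (CommRingCat.of A))

theorem isZero_of_sect_ab {U : Scheme.{u}} (F : EtCoh.Ab U) (h : ∀ (V : U.Etale) (s : EtCoh.sect F V), s = 0) :
    IsZero F := by
  rw [IsZero.iff_id_eq_zero]
  ext V s
  exact (h _ _).trans (h _ _).symm

/-- The complement of the closed point. -/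
noncomputable def Up (A : Type u) [CommRing A] [IsLocalRing A] : (Spec (CommRingCat.of A)).Opens :=
  ⟨{IsLocalRing.closedPoint A}ᶜ, (IsLocalRing.isClosed_singleton_closedPoint A).isOpen_compl⟩

theorem range_ip : Set.range (ip A) = {IsLocalRing.closedPoint A} := by
  ext x
  constructor
  · rintro ⟨y, rfl⟩
    rw [Subsingleton.elim y default]
    exact ip_default A
  · rintro rfl
    exact ⟨default, ip_default A⟩

theorem isCompl_ip : IsCompl (Set.range (ip A)) (Set.range (Up A).ι) := by
  rw [range_ip, Scheme.Opens.range_ι]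
  exact isCompl_compl

/-- Sheaves on `S` vanishing outside of the closed point come from the closed point. -/
theorem nonempty_of_supp (G : EtModW.Mod (Lam.{u} n) (Spec (CommRingCat.of A)))
    (hG : ∀ (V : (Spec (CommRingCat.of A)).Etale) (s : EtModW.sect (Lam.{u} n) G V),
      (∀ v : V.left, V.hom v ≠ IsLocalRing.closedPoint A) → s = 0) :
    Nonempty (G ≅ (EtModW.push (Lam.{u} n) (ip A)).obj ((EtModW.pull (Lam.{u} n) (ip A)).obj G)) := by
  let a := Etrest.ModAb.ab (Lam.{u} n) (Spec (CommRingCat.of A))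
  have hcl : IsClosedImmersion (ip A) := IsClosedImmersion.spec_of_surjective _ IsLocalRing.residue_surjective
  have h0 : IsZero ((EtShriek.restrAlong (Up A).ι).obj (a.obj G)) := by
    refine isZero_of_sect_ab _ fun V s => ?_
    refine hG ((EtShriek.compEtale (Up A).ι).obj V) s fun v hv => ?_
    have h1 : ((EtShriek.compEtale (Up A).ι).obj V).hom v ∈ Set.range (Up A).ι := ⟨V.hom v, rfl⟩
    rw [hv, Scheme.Opens.range_ι] at h1
    exact h1 rfl
  have h1 := Sga5.H856.HYStalk.isIso_unit_of_isZero (Up A).ι (ip A) isCompl_ip (a.obj G) h0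
  exact Sga2lef.H91.ModOf.nonempty_iso_of_ab
    (asIso ((EtCoh.pullPushAdj (ip A)).unit.app (a.obj G)) ≪≫
      (EtCoh.push (ip A)).mapIso ((Etrest.ModAb.pullIso (Lam.{u} n) (ip A)).app G).symm ≪≫
      ((Etrest.ModAb.pushIso (Lam.{u} n) (ip A)).app _).symm)

theorem push_injective_map {G H : EtModW.Mod (Lam.{u} n) (Spec (CommRingCat.of (IsLocalRing.ResidueField A)))}
    (k : G ⟶ H) (hk : (EtModW.push (Lam.{u} n) (ip A)).map k = 0) : k = 0 := by
  have hcl : IsClosedImmersion (ip A) := IsClosedImmersion.spec_of_surjective _ IsLocalRing.residue_surjective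
  have hf : (EtCoh.push (ip A)).Faithful := Groth.Agent.Sga4h.IntPushZero.faithful_push (ip A)
  apply (Etrest.ModAb.ab (Lam.{u} n) _).map_injective
  rw [Functor.map_zero]
  apply (EtCoh.push (ip A)).map_injective
  rw [Functor.map_zero]
  have h1 := (Etrest.ModAb.pushIso (Lam.{u} n) (ip A)).hom.naturality k
  have h2 : (EtModW.push (Lam.{u} n) (ip A) ⋙ Etrest.ModAb.ab (Lam.{u} n) _).map k = 0 := by
    rw [Functor.comp_map, hk, Functor.map_zero]
  rw [h2, zero_comp] at h1
  have h3 : (Etrest.ModAb.ab (Lam.{u} n) _ ⋙ EtCoh.push (ip A)).map k = 0 := by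
    rw [← cancel_epi ((Etrest.ModAb.pushIso (Lam.{u} n) (ip A)).hom.app G), ← h1, comp_zero]
  exact h3

/-- If `N` is supported above the closed point and `Hom(Z, N) = 0`, then `N` has no global sections. -/
theorem hZ (hcl : ∀ x : X, IsClosed {x} → f x = IsLocalRing.closedPoint A) (N : EtModW.Mod (Lam.{u} n) X)
    (hN : ∀ (U : X.Etale) (s : EtModW.sect (Lam.{u} n) N U) (u : U.left), ¬ IsClosed {U.hom u} →
      Etcore.LVan.Van N s u) (h0 : ∀ g : ZZ (n := n) f ⟶ N, g = 0)
    (φ : EtModW.constMod (Lam.{u} n) X (Lam.{u} n) ⟶ N) : φ = 0 := by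
  let adj := EtDl.pullPushModAdj (Lam.{u} n) f
  let G := (EtModW.push (Lam.{u} n) f).obj N
  have hG : ∀ (V : (Spec (CommRingCat.of A)).Etale) (s : EtModW.sect (Lam.{u} n) G V),
      (∀ v : V.left, V.hom v ≠ IsLocalRing.closedPoint A) → s = 0 := by
    intro V s hV
    let s' : EtModW.sect (Lam.{u} n) N ((EtCoh.bc f).obj V) := s
    refine Etcore.LVan.eq_zero_of_van s' fun x => hN _ s' x fun hx => ?_
    have h1 := hcl _ hx
    refine hV (EtpbcA.ConsPull.fstBc f V x) ?_
    rw [← h1]
    exact (LFinSupp.snd_bc_apply f V x).symm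
  obtain ⟨e⟩ := nonempty_of_supp G hG
  let H := (EtModW.pull (Lam.{u} n) (ip A)).obj G
  have h1 : ∀ k : EtModW.constMod (Lam.{u} n) _ (Lam.{u} n) ⟶ H, k = 0 := by
    intro k
    apply push_injective_map
    have h2 : (EtModW.push (Lam.{u} n) (ip A)).map k ≫ e.inv = 0 := by
      apply (adj.homEquiv _ _).symm.injective
      rw [h0 ((adj.homEquiv _ _).symm _), h0 ((adj.homEquiv _ _).symm _)]
    rw [← cancel_mono e.inv, h2, zero_comp]
  have h2 : Subsingleton (EtModW.constMod (Lam.{u} n) _ (Lam.{u} n) ⟶ H) := ⟨fun a b => (h1 a).trans (h1 b).symm⟩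
  have h3 : Subsingleton (EtModW.constMod (Lam.{u} n) _ (Lam.{u} n) ⟶ G) := by
    obtain ⟨e1⟩ := nonempty_sect A G
    exact ((homConstAddEquiv G).trans (e1.trans (homConstAddEquiv H).symm)).toEquiv.subsingleton
  obtain ⟨e2⟩ := LFinClass.nonempty_pull_constMod (Λ := Lam.{u} n) (M := Lam.{u} n) f
  have h4 : e2.hom ≫ φ = 0 := by
    apply (adj.homEquiv _ _).injective
    exact @Subsingleton.elim _ h3 _ _
  rw [← cancel_epi e2.hom, h4, comp_zero]

end Zcons

end Groth.Agent.EtDual.K336.GlobS
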