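import Groth.Agent.Sga4h.BidGlobU
import Groth.Agent.Sga4h.BidHom48

/-!
# The counting argument for biduality with two dualities

`S0 = I[0]` the unit, `A : DualData T` with `I[0] ⟶ A.J` a quasi-isomorphism, `Zc` a complex with `D Zc ≅ Zc[-c]`. If
* (t1) `|Hom(K, S0[i])| = |Hom(Zc, K[e + c - i])|` (finite) and
* (t2) `|Hom(K, Zc[i])| = |Hom(S0, K[e - i])|`
for all `K` in a class stable under `D`, then `|Hom(S0, D D K [i])| = |Hom(S0, K[i])|` (`card_DD`), hence the evaluation of the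
complexes `D K` induces bijections on `Hom(S0, -[i])` (`bijective_ev_D`).

If `D (ev K)` is an isomorphism in the derived category, then `Hom(cone (ev K), S0[n]) = 0` (`eq_zero_of_isIso_Dmap`).
-/

set_option autoImplicit false
set_option backward.defeqAttrib.useBackward true
set_option backward.isDefEq.respectTransparency false

universe w w' v₁ u₁

namespace Groth.Agent.EtDual.K336.BidStepAbs

open CategoryTheory Category Limits HomologicalComplex CochainComplex Opposite ZeroObject Pretriangulated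
open Groth.Agent.Sga4h.DualCx Groth.Agent.Sga4h.DualSelf Groth.Agent.Sga4h.Refl
open Groth.Agent.Sga4h Groth.Agent.Sga4h.BidGlobU DerivedCategory

variable {C : Type u₁} [Category.{v₁} C] [Abelian C] [HasDerivedCategory.{w} C] {T : C ⥤ C ⥤ C} [T.Additive]
  [∀ X, (T.obj X).Additive]
  [∀ (K₁ K₂ : CochainComplex C ℤ), CochainComplex.HasMapBifunctor K₁ K₂ T]
  [∀ E : CochainComplex C ℤ, (T.map₂CochainComplex.flip.obj E).IsLeftAdjoint]
  [∀ (J : Type), HasColimitsOfShape (Discrete J) C]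
  [∀ (J : Type), (colim : (Discrete J ⥤ C) ⥤ C).PreservesMonomorphisms]

variable (A : DualData T)

/-- `D (K[-i]) ≅ (D K)[i]`. -/
theorem nonempty_shiftNeg (K : CochainComplex C ℤ) (i : ℤ) :
    Nonempty (Q.obj (A.D (K⟦-i⟧)) ≅ (Q.obj (A.D K))⟦i⟧) := by
  obtain ⟨e1⟩ := nonempty_shiftIso A K (-i)
  exact ⟨((shiftFunctorZero _ ℤ).app _).symm ≪≫
    (CategoryTheory.shiftFunctorAdd' (DerivedCategory C) (-i) i 0 (by lia)).app _ ≪≫
      (CategoryTheory.shiftFunctor _ i).mapIso e1.symm⟩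

/-- `D (I[0][-i]) ≅ I[0][i]` for the unit. -/
theorem nonempty_unitIso {I : C} (ρ : T.flip.obj I ≅ 𝟭 C)
    (j : (CochainComplex.singleFunctor C 0).obj I ⟶ A.J) (hj : QuasiIso j) (i : ℤ) :
    Nonempty (Q.obj (A.D (((CochainComplex.singleFunctor C 0).obj I)⟦-i⟧)) ≅
      ((DerivedCategory.singleFunctor C 0).obj I)⟦i⟧) := by
  let I0 : CochainComplex C ℤ := (CochainComplex.singleFunctor C 0).obj I
  let eS : (DerivedCategory.singleFunctor C 0).obj I ≅ Q.obj I0 := (DerivedCategory.singleFunctorIsoCompQ C 0).app I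
  have h3 : IsIso (BidPt.toDUnit ρ A) := BidPt.isIso_toDUnit ρ A
  have e3 : Q.obj (A.D I0) ≅ (DerivedCategory.singleFunctor C 0).obj I :=
    (Q.mapIso (asIso (BidPt.toDUnit ρ A))).symm ≪≫
      (@asIso _ _ _ _ (Q.map j) ((isIso_Q_map_iff_quasiIso C j).2 hj)).symm ≪≫ eS.symm
  obtain ⟨e⟩ := nonempty_shiftNeg A I0 i
  exact ⟨e ≪≫ (CategoryTheory.shiftFunctor _ i).mapIso e3⟩

/-- Precomposition with a map whose dual is an isomorphism. -/
theorem bijective_precomp {X X' : DerivedCategory C} (φ : X' ⟶ X) [IsIso ((DD A).map φ.op)]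
    (E : CochainComplex C ℤ) :
    Function.Bijective (fun f : X ⟶ (DD A).obj (op (Q.obj E)) => φ ≫ f) := by
  let e := (adjDD A).homEquiv X (op (Q.obj E))
  let e' := (adjDD A).homEquiv X' (op (Q.obj E))
  have hφ : IsIso ((DD A).rightOp.map φ) := by
    change IsIso ((DD A).map φ.op).op
    infer_instance
  have h : (fun f : X ⟶ (DD A).obj (op (Q.obj E)) => φ ≫ f) =
      e' ∘ (fun g => (DD A).rightOp.map φ ≫ g) ∘ e.symm := by
    funext f
    simp only [Function.comp_apply]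
    change _ = (adjDD A).homEquiv X' (op (Q.obj E)) ((DD A).rightOp.map φ ≫ e.symm f)
    rw [Adjunction.homEquiv_naturality_left]
    congr 1
    exact (e.apply_symm_apply f).symm
  rw [h]
  refine e'.bijective.comp (Function.Bijective.comp ?_ e.symm.bijective)
  constructor
  · intro a b hab
    exact (cancel_epi _).1 hab
  · intro b
    exact ⟨inv ((DD A).rightOp.map φ) ≫ b, by simp⟩

/-- The dual of `Q.map f` is an isomorphism if `D f` is a quasi-isomorphism. -/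
theorem isIso_DD_map {K L : CochainComplex C ℤ} (f : K ⟶ L) (h : IsIso (Q.map (A.Dmap f))) :
    IsIso ((DD A).map (Q.map f).op) := by
  have h1 := (DDIso A).hom.naturality f.op
  have h2 : (DD A).map (Q.map f).op = (DDIso A).hom.app (op L) ≫ Q.map (A.Dmap f) ≫
      (DDIso A).inv.app (op K) := by
    have h3 : (DD A).map (Q.map f).op ≫ (DDIso A).hom.app (op K) =
        (DDIso A).hom.app (op L) ≫ Q.map (A.Dmap f) := h1
    rw [← reassoc_of% h3, Iso.hom_inv_id_app]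
    exact (Category.comp_id _).symm
  rw [h2]
  infer_instance

section Cone

variable {I : C} (ρ : T.flip.obj I ≅ 𝟭 C)
  (j : (CochainComplex.singleFunctor C 0).obj I ⟶ A.J) (hj : QuasiIso j)

include ρ hj in
/-- Precomposition with a map whose dual is an isomorphism is bijective on maps to the shifts of the unit. -/
theorem bijective_precomp_unit {X X' : DerivedCategory C} (φ : X' ⟶ X) (h : IsIso ((DD A).map φ.op)) (n : ℤ) :
    Function.Bijective (fun f : X ⟶ ((DerivedCategory.singleFunctor C 0).obj I)⟦n⟧ => φ ≫ f) := by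
  obtain ⟨e⟩ := nonempty_unitIso A ρ j hj n
  let E : CochainComplex C ℤ := ((CochainComplex.singleFunctor C 0).obj I)⟦-n⟧
  let e' : (DD A).obj (op (Q.obj E)) ≅ ((DerivedCategory.singleFunctor C 0).obj I)⟦n⟧ := (DDIso A).app (op E) ≪≫ e
  have h1 := bijective_precomp A φ E
  constructor
  · intro a b hab
    have h2 : φ ≫ (a ≫ e'.inv) = φ ≫ (b ≫ e'.inv) := by
      rw [← Category.assoc, ← Category.assoc]
      exact congrArg (· ≫ e'.inv) hab
    exact (cancel_mono e'.inv).1 (h1.1 h2)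
  · intro b
    obtain ⟨a, ha⟩ := h1.2 (b ≫ e'.inv)
    refine ⟨a ≫ e'.hom, ?_⟩
    change φ ≫ a ≫ e'.hom = b
    have ha' : φ ≫ a = b ≫ e'.inv := ha
    rw [← Category.assoc, ha', Category.assoc, e'.inv_hom_id, Category.comp_id]

include ρ hj in
/-- If the dual of the first map of a distinguished triangle is an isomorphism, there are no maps from the cone to the
shifts of the unit. -/
theorem eq_zero_of_isIso_Dmap (Tr : Triangle (DerivedCategory C)) (hT : Tr ∈ distTriang _)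
    (h : IsIso ((DD A).map Tr.mor₁.op)) (n : ℤ)
    (f : Tr.obj₃ ⟶ ((DerivedCategory.singleFunctor C 0).obj I)⟦n⟧) : f = 0 := by
  let S0 := (DerivedCategory.singleFunctor C 0).obj I
  have h1 : Tr.mor₂ ≫ f = 0 := by
    apply (bijective_precomp_unit A ρ j hj Tr.mor₁ h n).1
    change Tr.mor₁ ≫ Tr.mor₂ ≫ f = Tr.mor₁ ≫ 0
    rw [← Category.assoc, comp_distTriang_mor_zero₁₂ _ hT, zero_comp, comp_zero]
  obtain ⟨g, hg⟩ := Triangle.yoneda_exact₃ Tr hT f h1
  let e : (S0⟦n - 1⟧)⟦(1 : ℤ)⟧ ≅ S0⟦n⟧ :=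
    ((CategoryTheory.shiftFunctorAdd' (DerivedCategory C) (n - 1) 1 n (by lia)).app S0).symm
  obtain ⟨g1, hg1⟩ := (CategoryTheory.shiftFunctor (DerivedCategory C) (1 : ℤ)).map_surjective (g ≫ e.inv)
  obtain ⟨g2, hg2⟩ := (bijective_precomp_unit A ρ j hj Tr.mor₁ h (n - 1)).2 g1
  have hg2' : Tr.mor₁ ≫ g2 = g1 := hg2
  have h3 : g = Tr.mor₁⟦(1 : ℤ)⟧' ≫ g2⟦(1 : ℤ)⟧' ≫ e.hom := by
    rw [← Category.assoc, ← Functor.map_comp, hg2', hg1, Category.assoc, e.inv_hom_id, Category.comp_id]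
  rw [hg, h3, ← Category.assoc, comp_distTriang_mor_zero₃₁ _ hT, zero_comp]

end Cone

section Count

variable {I : C} {Zc : CochainComplex C ℤ} {P : CochainComplex C ℤ → Prop} {e c : ℤ}

/-- `Hom(Zc, (D K)[j]) ≃ Hom(K, (D Zc)[j])`. -/
theorem nonempty_selfEquiv_shift (K E : CochainComplex C ℤ) (i : ℤ) :
    Nonempty ((Q.obj E ⟶ (Q.obj (A.D K))⟦i⟧) ≃ (Q.obj K ⟶ (Q.obj (A.D E))⟦i⟧)) := by
  obtain ⟨e4⟩ := nonempty_shiftNeg A E i
  have e5 : Q.obj (E⟦-i⟧) ≅ (Q.obj E)⟦-i⟧ := (Q.commShiftIso (-i)).app E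
  obtain ⟨h6⟩ := nonempty_selfEquiv A (E⟦-i⟧) K
  have e7 : ((Q.obj E)⟦-i⟧)⟦i⟧ ≅ Q.obj E :=
    ((CategoryTheory.shiftFunctorAdd' (DerivedCategory C) (-i) i 0 (by lia)).app _).symm ≪≫
      (shiftFunctorZero _ ℤ).app _
  have h8 : ((Q.obj E)⟦-i⟧ ⟶ Q.obj (A.D K)) ≃ (Q.obj E ⟶ (Q.obj (A.D K))⟦i⟧) :=
    (Functor.FullyFaithful.ofFullyFaithful (CategoryTheory.shiftFunctor (DerivedCategory C) i)).homEquiv.trans
      (Iso.homCongr e7 (Iso.refl _))
  exact ⟨h8.symm.trans ((Iso.homCongr e5.symm (Iso.refl _)).trans (h6.trans (Iso.homCongr (Iso.refl _) e4)))⟩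

variable (hPD : ∀ K, P K → P (A.D K))
  (hU : ∀ (M : CochainComplex C ℤ) (i : ℤ), Nonempty (((DerivedCategory.singleFunctor C 0).obj I ⟶ (Q.obj (A.D M))⟦i⟧) ≃
      (Q.obj M ⟶ ((DerivedCategory.singleFunctor C 0).obj I)⟦i⟧)))
  (t0 : ∀ K, P K → ∀ i : ℤ, Finite (Q.obj K ⟶ ((DerivedCategory.singleFunctor C 0).obj I)⟦i⟧))
  (t1 : ∀ K, P K → ∀ i : ℤ, Nat.card (Q.obj K ⟶ ((DerivedCategory.singleFunctor C 0).obj I)⟦i⟧) =
    Nat.card (Q.obj Zc ⟶ (Q.obj K)⟦e + c - i⟧))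
  (t2 : ∀ K, P K → ∀ i : ℤ, Nat.card (Q.obj K ⟶ (Q.obj Zc)⟦i⟧) =
    Nat.card ((DerivedCategory.singleFunctor C 0).obj I ⟶ (Q.obj K)⟦e - i⟧))
  (dz : Nonempty (Q.obj (A.D Zc) ≅ (Q.obj Zc)⟦-c⟧))

include hPD hU t1 t2 dz in
/-- **Counting.** `|Hom(S0, (D D K)[i])| = |Hom(S0, K[i])|`. -/
theorem card_DD (K : CochainComplex C ℤ) (hK : P K) (i : ℤ) :
    Nat.card ((DerivedCategory.singleFunctor C 0).obj I ⟶ (Q.obj (A.D (A.D K)))⟦i⟧) =
      Nat.card ((DerivedCategory.singleFunctor C 0).obj I ⟶ (Q.obj K)⟦i⟧) := by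
  obtain ⟨e1⟩ := hU (A.D K) i
  obtain ⟨e2⟩ := nonempty_selfEquiv_shift A K Zc (e + c - i)
  obtain ⟨z⟩ := dz
  let e3 : (Q.obj (A.D Zc))⟦e + c - i⟧ ≅ (Q.obj Zc)⟦e - i⟧ :=
    (CategoryTheory.shiftFunctor _ (e + c - i)).mapIso z ≪≫
      ((CategoryTheory.shiftFunctorAdd' (DerivedCategory C) (-c) (e + c - i) (e - i) (by lia)).app _).symm
  rw [Nat.card_congr e1, t1 _ (hPD K hK) i, Nat.card_congr (e2.trans (Iso.homCongr (Iso.refl _) e3)),
    t2 K hK (e - i), show e - (e - i) = i by lia]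

include hPD hU t0 t1 t2 dz in
/-- The evaluation of `D K` induces bijections on `Hom(S0, -[i])`. -/
theorem bijective_ev_D (K : CochainComplex C ℤ) (hK : P K) (i : ℤ) :
    Function.Bijective (fun x : (DerivedCategory.singleFunctor C 0).obj I ⟶ (Q.obj (A.D K))⟦i⟧ =>
      x ≫ (Q.map (A.ev (A.D K)))⟦i⟧') := by
  have hinj : Function.Injective (fun x : (DerivedCategory.singleFunctor C 0).obj I ⟶ (Q.obj (A.D K))⟦i⟧ =>
      x ≫ (Q.map (A.ev (A.D K)))⟦i⟧') := by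
    intro x y hxy
    have h1 : (Q.map (A.ev (A.D K)))⟦i⟧' ≫ (Q.map (A.Dmap (A.ev K)))⟦i⟧' = 𝟙 _ := by
      rw [← Functor.map_comp, ← Q.map_comp, A.ev_comp_Dmap_ev]
      simp
    have h2 : (x ≫ (Q.map (A.ev (A.D K)))⟦i⟧') ≫ (Q.map (A.Dmap (A.ev K)))⟦i⟧' =
        (y ≫ (Q.map (A.ev (A.D K)))⟦i⟧') ≫ (Q.map (A.Dmap (A.ev K)))⟦i⟧' :=
      congrArg (· ≫ (Q.map (A.Dmap (A.ev K)))⟦i⟧') hxy
    rw [Category.assoc, Category.assoc, h1, Category.comp_id, Category.comp_id] at h2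
    exact h2
  obtain ⟨e1⟩ := hU K i
  obtain ⟨e2⟩ := hU (A.D (A.D K)) i
  have f1 : Finite ((DerivedCategory.singleFunctor C 0).obj I ⟶ (Q.obj (A.D K))⟦i⟧) :=
    have := t0 K hK i
    Finite.of_equiv _ e1.symm
  have f2 : Finite ((DerivedCategory.singleFunctor C 0).obj I ⟶ (Q.obj (A.D (A.D (A.D K))))⟦i⟧) :=
    have := t0 _ (hPD _ (hPD K hK)) i
    Finite.of_equiv _ e2.symm
  exact (Nat.bijective_iff_injective_and_card _).2 ⟨hinj,
    (card_DD A hPD hU t1 t2 dz (A.D K) (hPD K hK) i).symm⟩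

end Count

section Zero

omit [∀ (J : Type), HasColimitsOfShape (Discrete J) C]
  [∀ (J : Type), (colim : (Discrete J ⥤ C) ⥤ C).PreservesMonomorphisms] in
/-- A bounded below object of the derived category is zero if its homology is killed by enough functors. -/
theorem isZero_of_functors {ι : Type*} {C' : ι → Type*} [∀ i, Category* (C' i)] [∀ i, Abelian (C' i)]
    (Φ : ∀ i, C ⥤ C' i) (B : C) (hcons : ∀ N : C, (∀ i, IsZero ((Φ i).obj N)) → (∀ f : B ⟶ N, f = 0) → IsZero N)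
    (Z : DerivedCategory C) (a : ℤ) (hZ : Z.IsGE a)
    (h1 : ∀ i q, IsZero ((Φ i).obj ((DerivedCategory.homologyFunctor C q).obj Z)))
    (h2 : ∀ (n : ℤ) (f : (DerivedCategory.singleFunctor C 0).obj B ⟶ Z⟦n⟧), f = 0) : IsZero Z := by
  have hZ0 : ∀ q, IsZero ((DerivedCategory.homologyFunctor C q).obj Z) := by
    refine BidHom48.isZero_of_induction Z a fun q hq => ?_
    refine hcons _ (fun i => h1 i q) fun f => ?_
    obtain ⟨e⟩ := BidHom48.nonempty_homEquivOfIsGE B Z q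
    have hs : Subsingleton ((DerivedCategory.singleFunctor C 0).obj B ⟶ Z⟦q⟧) :=
      ⟨fun x y => (h2 q x).trans (h2 q y).symm⟩
    have := e.symm.subsingleton
    exact Subsingleton.elim _ _
  have h0 : IsIso (0 : Z ⟶ Z) := by
    rw [isIso_iff]
    intro n
    exact ⟨0, (hZ0 n).eq_of_src _ _, (hZ0 n).eq_of_src _ _⟩
  rw [IsZero.iff_id_eq_zero, ← cancel_epi (0 : Z ⟶ Z)]
  simp

end Zero

end Groth.Agent.EtDual.K336.BidStepAbs
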