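import Groth.Agent.EtDual.K336.BidStepCon
import Groth.Agent.EtDual.K336.BidStepAbs
import Groth.Agent.Sga4h.Dbc323
import Groth.Agent.Sga4h.BidLoc48

/-!
# The induction step of biduality with two dualities

`bid_of_loc`: let `X` be noetherian with separably closed residue fields at the closed points, `g i : X' i ⟶ X` a finite family
of morphisms whose images contain all non-closed points, such that duality commutes with the inverse images along the `g i` and
biduality holds on the `X' i`. Let `Z` be a sheaf of modules with `D Z ≅ Z[-c]` and (t1) `|Ext^i(K, Λ)| = |Ext^{e+c-i}(Z, K)|`,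
(t2) `|Ext^i(K, Z)| = |Ext^{e-i}(Λ, K)|` for all `K ∈ D^b_c`. Then biduality holds on `X`.
-/

set_option autoImplicit false
universe w v₁ v₂ u₁ u₂ u

open CategoryTheory CategoryTheory.Limits AlgebraicGeometry Opposite TopologicalSpace Pretriangulated

attribute [local instance 5000] CategoryTheory.Abelian.toPreadditive
  CategoryTheory.Preadditive.preadditiveHasZeroMorphisms

namespace Groth.Agent.EtDual.K336.BidStep

attribute [local instance] HasDerivedCategory.standard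
open scoped Groth.Agent.Sga4h.ModInst
open Groth.Agent.Sga4h Groth.Agent.Sga4h.Refl DerivedCategory
open Groth.Agent.Sga4h.BidIndD48 Groth.Agent.Sga4h.BidIndLoc48 Groth.Agent.Sga4h.BidLoc48

section Exact

variable {C : Type u₁} [Category.{v₁} C] [Abelian C] [HasDerivedCategory.{w} C]
  {C' : Type u₂} [Category.{v₂} C'] [Abelian C'] (Φ : C ⥤ C') [PreservesFiniteLimits Φ] [PreservesFiniteColimits Φ]

/-- If an exact functor turns the homology of the first map of a triangle into isomorphisms, it kills the homology of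
the cone. -/
theorem isZero_obj₃ (T : Triangle (DerivedCategory C)) (hT : T ∈ distTriang _)
    (h1 : ∀ q : ℤ, IsIso (Φ.map ((homologyFunctor C q).map T.mor₁))) (q : ℤ) :
    IsZero (Φ.obj ((homologyFunctor C q).obj T.obj₃)) := by
  have hadd : Φ.Additive := by
    have := preservesBinaryBiproducts_of_preservesBinaryProducts Φ
    exact Functor.additive_of_preservesBinaryBiproducts _
  have hex := HomologySequence.exact₃ T hT q (q + 1) rfl
  have hex' := hex.map Φ
  have e1 : Φ.map ((homologyFunctor C q).map T.mor₂) = 0 := by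
    have : IsIso (Φ.map ((homologyFunctor C q).map T.mor₁)) := h1 q
    have h4 : Φ.map ((homologyFunctor C q).map T.mor₁) ≫
        Φ.map ((homologyFunctor C q).map T.mor₂) = 0 := by
      rw [← Functor.map_comp, ← Functor.map_comp, comp_distTriang_mor_zero₁₂ _ hT, Functor.map_zero,
        Functor.map_zero]
    rw [← cancel_epi (Φ.map ((homologyFunctor C q).map T.mor₁)), h4, comp_zero]
  have e2 : Φ.map (HomologySequence.δ T q (q + 1) rfl) = 0 := by
    have : IsIso (Φ.map ((homologyFunctor C (q + 1)).map T.mor₁)) := h1 (q + 1)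
    have h4 : Φ.map (HomologySequence.δ T q (q + 1) rfl) ≫
        Φ.map ((homologyFunctor C (q + 1)).map T.mor₁) = 0 := by
      rw [← Functor.map_comp, HomologySequence.δ_comp T hT q (q + 1) rfl, Functor.map_zero]
    rw [← cancel_mono (Φ.map ((homologyFunctor C (q + 1)).map T.mor₁)), h4, zero_comp]
  exact hex'.isZero_of_both_zeros e1 e2

omit [Abelian C'] [PreservesFiniteLimits Φ] [PreservesFiniteColimits Φ] in
/-- Homology of complexes and homology in the derived category, after applying a functor. -/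
theorem isIso_map_homologyFunctor {K L : CochainComplex C ℤ} (f : K ⟶ L) (q : ℤ)
    (h : IsIso (Φ.map (HomologicalComplex.homologyMap f q))) :
    IsIso (Φ.map ((homologyFunctor C q).map (Q.map f))) := by
  have hn := (homologyFunctorFactors C q).hom.naturality f
  have h3 := congrArg Φ.map hn
  rw [Functor.map_comp, Functor.map_comp] at h3
  have h4 : IsIso (Φ.map ((HomologicalComplex.homologyFunctor _ _ q).map f)) := h
  have h5 : IsIso (Φ.map ((Q ⋙ homologyFunctor C q).map f)) := by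
    have h6 : IsIso (Φ.map ((Q ⋙ homologyFunctor C q).map f) ≫
        Φ.map ((homologyFunctorFactors C q).hom.app L)) := by
      rw [h3]
      infer_instance
    exact IsIso.of_isIso_comp_right _ (Φ.map ((homologyFunctorFactors C q).hom.app L))
  exact h5

end Exact

variable {Λ : Type (u + 1)} [CommRing Λ] {X : Scheme.{u}}

/-- The global hypotheses of the induction step. -/
structure GData (A : DualData (EtModD.tensorBi Λ X)) (n : ℕ) (Zc : CochainComplex (EtModW.Mod Λ X) ℤ)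
    (e c : ℤ) : Prop where
  /-- finiteness of `H¹` -/
  h1 : ∀ G : EtCoh.Ab X, EtCoh.KilledBy n G → EtPBC.IsConstructible G → Finite (EtCoh.H X G 1)
  /-- the dual is bounded -/
  bdd : ∀ K : CochainComplex (EtModW.Mod Λ X) ℤ, EtModD.IsDbc (Q.obj K) →
    ∃ a b : ℤ, (Q.obj (A.D K)).IsGE a ∧ (Q.obj (A.D K)).IsLE b
  /-- finiteness of the global cohomology -/
  fin : ∀ K : CochainComplex (EtModW.Mod Λ X) ℤ, EtModD.IsDbc (Q.obj K) → ∀ n : ℤ,
    Finite ((singleFunctor _ 0).obj (EtModW.constMod Λ X Λ) ⟶ (Q.obj K)⟦n⟧)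
  /-- finiteness of `Ext^i(K, Λ)` -/
  t0 : ∀ K : CochainComplex (EtModW.Mod Λ X) ℤ, EtModD.IsDbc (Q.obj K) → ∀ i : ℤ,
    Finite (Q.obj K ⟶ ((singleFunctor _ 0).obj (EtModW.constMod Λ X Λ))⟦i⟧)
  /-- the first duality -/
  t1 : ∀ K : CochainComplex (EtModW.Mod Λ X) ℤ, EtModD.IsDbc (Q.obj K) → ∀ i : ℤ,
    Nat.card (Q.obj K ⟶ ((singleFunctor _ 0).obj (EtModW.constMod Λ X Λ))⟦i⟧) =
      Nat.card (Q.obj Zc ⟶ (Q.obj K)⟦e + c - i⟧)
  /-- the second duality -/
  t2 : ∀ K : CochainComplex (EtModW.Mod Λ X) ℤ, EtModD.IsDbc (Q.obj K) → ∀ i : ℤ,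
    Nat.card (Q.obj K ⟶ (Q.obj Zc)⟦i⟧) =
      Nat.card ((singleFunctor _ 0).obj (EtModW.constMod Λ X Λ) ⟶ (Q.obj K)⟦e - i⟧)
  /-- the dual of `Zc` -/
  dz : Nonempty (Q.obj (A.D Zc) ≅ (Q.obj Zc)⟦-c⟧)

/-- **The induction step.** -/
theorem bid_of_loc [Finite Λ] [IsNoetherian X]
    (hsep : ∀ x : X, IsClosed {x} → IsSepClosed (X.residueField x))
    {n : ℕ} (hn : 0 < n) (hΛ : (n : Λ) = 0)
    (A : DualData (EtModD.tensorBi Λ X)) (ρ : (EtModD.tensorBi Λ X).flip.obj (EtModW.constMod Λ X Λ) ≅ 𝟭 _)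
    (j : (CochainComplex.singleFunctor _ 0).obj (EtModW.constMod Λ X Λ) ⟶ A.J) (hj : QuasiIso j)
    (Z : EtModW.Mod Λ X) {e m : ℤ} (G : GData A n ((CochainComplex.singleFunctor _ 0).obj Z) e m)
    (hZ : ∀ N : EtModW.Mod Λ X, (∀ (U : X.Etale) (s : EtModW.sect Λ N U) (u : U.left), ¬ IsClosed {U.hom u} →
      Etcore.LVan.Van N s u) → (∀ f : Z ⟶ N, f = 0) → ∀ f : EtModW.constMod Λ X Λ ⟶ N, f = 0)
    {ι : Type*} [Finite ι] (X' : ι → Scheme.{u}) (g : ∀ i, X' i ⟶ X)
    [∀ i, CompactSpace (X' i)] [∀ i, QuasiSeparatedSpace (X' i)]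
    (hcov : ∀ x : X, (∀ i, x ∉ Set.range (g i)) → IsClosed {x})
    (A' : ∀ i, DualData (EtModD.tensorBi Λ (X' i))) (c : ∀ i, Loc A (A' i) (g i))
    (hB : ∀ i, Bid (A' i)) : Bid A := by
  have hU := BidGlobU.nonempty_homUnit A ρ j hj
  -- the dual is in `D^b_c`
  have hPD : ∀ K : CochainComplex (EtModW.Mod Λ X) ℤ, EtModD.IsDbc (Q.obj K) →
      EtModD.IsDbc (Q.obj (A.D K)) := by
    intro K hK
    obtain ⟨b, c', hb, hc⟩ := G.bdd K hK
    refine ⟨⟨b, c', hb, hc⟩, ?_⟩
    refine BidStepCon.isConstructible_HD hsep hn hΛ X' g hcov G.h1 (fun Z hZ m => ?_) (Q.obj (A.D K)) b hb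
      (fun i => ?_) (fun i => (c i).loc₁ (hB i) K hK)
    · let e := Q.objObjPreimageIso Z
      have hf := G.fin (Q.objPreimage Z) (isDbc_of_iso e.symm hZ) m
      exact Finite.of_equiv _ (Iso.homCongr (Iso.refl _) ((shiftFunctor _ m).mapIso e))
    · obtain ⟨e1⟩ := hU K i
      have := G.t0 K hK i
      exact Finite.of_equiv _ e1.symm
  -- the dual is reflexive
  have hDrefl : ∀ K : CochainComplex (EtModW.Mod Λ X) ℤ, EtModD.IsDbc (Q.obj K) →
      IsIso (Q.map (A.ev (A.D K))) := by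
    intro K hK
    obtain ⟨b₁, c₁, hb₁, hc₁⟩ := (hPD K hK).1
    obtain ⟨b₂, c₂, hb₂, hc₂⟩ := G.bdd _ (hPD _ (hPD K hK))
    refine BidStepCon.isIso_of_pulls hsep X' g hcov (Q.map (A.ev (A.D K))) (min b₁ b₂) ?_ ?_ (fun i q => ?_)
      (fun i => BidStepAbs.bijective_ev_D A (P := fun K => EtModD.IsDbc (Q.obj K)) hPD hU G.t0 G.t1 G.t2 G.dz K hK i)
    · exact TStructure.t.isGE_of_ge _ _ b₁ (min_le_left _ _)
    · exact TStructure.t.isGE_of_ge _ _ b₂ (min_le_right _ _)
    · exact isIso_map_homologyFunctor _ _ _ ((c i).loc₂ (hB i) _ (hPD K hK) (hPD _ (hPD K hK)) q)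
  refine ⟨hPD, fun K hK => ⟨?_⟩⟩
  have h1 : IsIso (Q.map (A.Dmap (A.ev K))) := by
    have := hDrefl K hK
    have h2 : Q.map (A.ev (A.D K)) ≫ Q.map (A.Dmap (A.ev K)) = 𝟙 _ := by
      rw [← Q.map_comp, A.ev_comp_Dmap_ev]
      exact Q.map_id _
    have h3 : IsIso (Q.map (A.ev (A.D K)) ≫ Q.map (A.Dmap (A.ev K))) := by
      rw [h2]
      infer_instance
    exact IsIso.of_isIso_comp_left (Q.map (A.ev (A.D K))) _
  have h2 := BidStepAbs.isIso_DD_map A (A.ev K) h1
  obtain ⟨W, p, q, hT⟩ := distinguished_cocone_triangle (Q.map (A.ev K))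
  have hDD : EtModD.IsDbc (Q.obj (A.D (A.D K))) := hPD _ (hPD K hK)
  have hW : EtModD.IsDbc W :=
    (EtModD.IsDbc : ObjectProperty (EtModD.D Λ X)).ext_of_isTriangulatedClosed₃ _ hT hK hDD
  let W' := Q.objPreimage W
  let eW : Q.obj W' ≅ W := Q.objObjPreimageIso W
  have hW' : EtModD.IsDbc (Q.obj W') := isDbc_of_iso eW.symm hW
  have h4 : ∀ i : ℤ, Subsingleton (Q.obj ((CochainComplex.singleFunctor _ 0).obj Z) ⟶ (Q.obj W')⟦i⟧) := by
    intro i
    have h5 := G.t1 W' hW' (e + m - i)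
    rw [show e + m - (e + m - i) = i by lia] at h5
    have h6 : Subsingleton (Q.obj W' ⟶ ((singleFunctor _ 0).obj (EtModW.constMod Λ X Λ))⟦e + m - i⟧) := by
      have h7 : ∀ f : W ⟶ ((singleFunctor _ 0).obj (EtModW.constMod Λ X Λ))⟦e + m - i⟧, f = 0 :=
        fun f => BidStepAbs.eq_zero_of_isIso_Dmap A ρ j hj _ hT h2 _ f
      refine ⟨fun a b => ?_⟩
      rw [← cancel_epi eW.inv, h7 (eW.inv ≫ a), h7 (eW.inv ≫ b)]
    have h8 : Nat.card (Q.obj W' ⟶ ((singleFunctor _ 0).obj (EtModW.constMod Λ X Λ))⟦e + m - i⟧) = 1 :=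
      Nat.card_unique
    rw [h8] at h5
    exact (Nat.card_eq_one_iff_unique.1 h5.symm).1
  obtain ⟨⟨aW, bW, haW, hbW⟩, -⟩ := hW
  have hz : IsZero W := by
    refine BidStepAbs.isZero_of_functors (fun i => EtModW.pull Λ (g i)) Z (fun N hN hN' => ?_) W aW haW
      (fun i q' => ?_) (fun r f => ?_)
    · refine BidStepCon.isZero_of_pulls hsep X' g hcov N hN (hZ N (fun U s u hu => ?_) hN')
      obtain ⟨i, hi⟩ : ∃ i, U.hom u ∈ Set.range (g i) := by
        by_contra h
        exact hu (hcov _ fun i hi => h ⟨i, hi⟩)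
      exact BidInd48.van_of_isZero_pull (g i) N (hN i) U s u hi
    · exact isZero_obj₃ (EtModW.pull Λ (g i)) _ hT (fun q' => isIso_map_homologyFunctor _ _ _
        ((c i).loc₂ (hB i) K hK (hPD K hK) q')) q'
    · let eS := (singleFunctorIsoCompQ (EtModW.Mod Λ X) 0).app Z
      have h9 := h4 r
      have h10 : eS.inv ≫ f ≫ (eW.inv)⟦r⟧' = 0 := @Subsingleton.elim _ h9 _ _
      have h11 : f ≫ (eW.inv)⟦r⟧' = 0 := by
        rw [← cancel_epi eS.inv, h10, comp_zero]
      rw [← cancel_mono ((eW.inv)⟦r⟧'), h11, zero_comp]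
  rw [← isIso_Q_map_iff_quasiIso]
  exact (Triangle.isZero₃_iff_isIso₁ _ hT).1 hz

end Groth.Agent.EtDual.K336.BidStep
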