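import Groth.Agent.Sga4h.BidCmp538
import Groth.Agent.Sga4h.BidGlobU
import Groth.Agent.Sga4h.FinBC
import Groth.Agent.Sga4h.BidFin
import Groth.Agent.S0162

/-!
# Comparison of duality along smooth morphisms

`g : Y ⟶ X` smooth, `n` invertible on `X`, `Λ` with `n = 0`: for `E ∈ D^b_c(X, Λ)` there is an isomorphism
`g⁻¹ (D E) ≅ D (g⁻¹ E)` in the derived category (`nonempty_iso`), where `D = RHom(-, Λ)`.
-/

set_option autoImplicit false

universe u

open CategoryTheory CategoryTheory.Limits AlgebraicGeometry MonoidalCategory Opposite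

attribute [local instance 5000] CategoryTheory.Abelian.toPreadditive
  CategoryTheory.Preadditive.preadditiveHasZeroMorphisms

namespace Groth.Agent.EtDual.K336.SmCmp

attribute [local instance] HasDerivedCategory.standard
open scoped Groth.Agent.Sga4h.ModInst Groth.Agent.Sga4h.BidLimAcyc
open Groth.Agent.Sga4h
open Groth.Agent.Sga4h.Refl DerivedCategory BidIndLoc48 BidRed538Main BidCmp538LM BidLimAcyc BidTens
open BidLimRep BidLimAb BidLimHom BidLimTheta
open Groth.Agent.EtpbcB Groth.Agent.Etrest.ModAb Groth.Agent.Etrest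

/-- Base change along `g` of the direct images of etale quasi-compact quasi-separated morphisms for sheaves killed by `n`:
degree zero and acyclicity. -/
structure GoodT {X Y : Scheme.{u}} (g : Y ⟶ X) (n : ℕ) : Prop where
  bc : ∀ (U : X.Etale) [QuasiCompact U.hom] [QuasiSeparated U.hom] (M : EtCoh.Ab U.left), EtCoh.KilledBy n M →
    IsIso (EtCoh.baseChange0 U.hom g ((EtCoh.bc g).obj U).hom (gU g U) (isPullback_gU g U).w M)
  acyc : ∀ (U : X.Etale) [QuasiCompact U.hom] [QuasiSeparated U.hom] (M : EtCoh.Ab U.left) (q : ℕ),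
    EtCoh.KilledBy n M → IsZero ((EtCoh.Rpush U.hom q).obj M) →
      IsZero ((EtCoh.Rpush ((EtCoh.bc g).obj U).hom q).obj ((EtCoh.pull (gU g U)).obj M))

/-- Smooth base change. -/
theorem goodT_of_smooth {X Y : Scheme.{u}} (g : Y ⟶ X) [Smooth g] (n : ℕ) (hn : IsUnit (n : Γ(X, ⊤))) :
    GoodT g n where
  bc U _ _ M hM := (S0162.result g U.hom ((EtCoh.bc g).obj U).hom (gU g U) (isPullback_gU g U) M
    (FinBC.isTorsionInvertibleOn_of_killedBy hn hM) 0).2
  acyc U _ _ M q hM h := by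
    obtain ⟨i⟩ := (S0162.result g U.hom ((EtCoh.bc g).obj U).hom (gU g U) (isPullback_gU g U) M
      (FinBC.isTorsionInvertibleOn_of_killedBy hn hM) q).1
    exact ((EtCoh.pull g).map_isZero h).of_iso i.symm

variable {Λ : Type (u + 1)} [CommRing Λ] {X Y : Scheme.{u}} {n : ℕ}

/-- Acyclicity of `g⁻¹ I` restricted to `U ×_X Y` for the direct image to `Y`. -/
theorem isAcyc_pull (hΛ : (n : Λ) = 0) {g : Y ⟶ X} (hg : GoodT g n) (U : X.Etale) [QuasiCompact U.hom]
    [QuasiSeparated U.hom] (I : EtModW.Mod Λ X) [Injective I] :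
    RDer2.IsAcyc (EtModW.push Λ ((EtCoh.bc g).obj U).hom)
      ((ModRestr.res Λ ((EtCoh.bc g).obj U).hom).obj ((EtModW.pull Λ g).obj I)) := by
  intro m
  have h1 : Injective ((ModRestr.res Λ U.hom).obj I) := ModRestr.injective_res Λ U.hom I
  have h2 : IsZero ((EtCoh.Rpush U.hom (m + 1)).obj ((ab Λ U.left).obj ((ModRestr.res Λ U.hom).obj I))) :=
    acyclic_ab Λ ((ModRestr.res Λ U.hom).obj I) U.hom (m + 1) (by lia)
  have h3 := hg.acyc U _ _ (BidFin.killedBy_ab hΛ _) h2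
  refine isZero_of_ab ?_
  refine IsZero.of_iso ?_ ((rpushIso Λ ((EtCoh.bc g).obj U).hom (m + 1)).app _)
  refine h3.of_iso ((EtCoh.Rpush ((EtCoh.bc g).obj U).hom (m + 1)).mapIso ?_)
  exact (ab Λ _).mapIso ((lam g U Λ).app I).symm ≪≫ (pullIso Λ (gU g U)).app ((ModRestr.res Λ U.hom).obj I)

/-- `Hom(g⁻¹ F, -)` sends the quasi-isomorphism `g⁻¹ J ⟶ J'` to a quasi-isomorphism. -/
theorem quasiIso_homShF (hΛ : (n : Λ) = 0) {g : Y ⟶ X} (hg : GoodT g n) (U : X.Etale) [QuasiCompact U.hom]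
    [QuasiSeparated U.hom]
    {F : EtModW.Mod Λ X} {δ : F.obj.obj (op U)} (hF : Rep U F δ)
    {J : CochainComplex (EtModW.Mod Λ X) ℤ} {J' : CochainComplex (EtModW.Mod Λ Y) ℤ} (a b : ℤ)
    [J.IsStrictlyGE a] [J'.IsStrictlyGE b] (hJ : ∀ n, Injective (J.X n)) (hJ' : ∀ n, Injective (J'.X n))
    (α : ((EtModW.pull Λ g).mapHomologicalComplex (ComplexShape.up ℤ)).obj J ⟶ J') [QuasiIso α] :
    QuasiIso (((HomSh.homShF ((EtModW.pull Λ g).obj F)).mapHomologicalComplex (ComplexShape.up ℤ)).map α) := by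
  let R := ModRestr.res Λ ((EtCoh.bc g).obj U).hom
  let P := EtModW.push Λ ((EtCoh.bc g).obj U).hom
  have h1 : QuasiIso ((R.mapHomologicalComplex (ComplexShape.up ℤ)).map α) := inferInstance
  have i1 : CochainComplex.IsStrictlyGE ((R.mapHomologicalComplex (ComplexShape.up ℤ)).obj
    (((EtModW.pull Λ g).mapHomologicalComplex (ComplexShape.up ℤ)).obj J)) a := inferInstance
  have i2 : CochainComplex.IsStrictlyGE ((R.mapHomologicalComplex (ComplexShape.up ℤ)).obj J') b := inferInstance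
  have h2 : QuasiIso ((P.mapHomologicalComplex (ComplexShape.up ℤ)).map
      ((R.mapHomologicalComplex (ComplexShape.up ℤ)).map α)) := by
    refine RDer2.quasiIso_map P _ a b (fun i => ?_) (fun i => ?_)
    · have := hJ i
      exact isAcyc_pull hΛ hg U (J.X i)
    · have := hJ' i
      have : Injective (R.obj (J'.X i)) := ModRestr.injective_res Λ _ (J'.X i)
      exact RDer2.isAcyc_of_injective P (R.obj (J'.X i))
  let e := NatIso.mapHomologicalComplex (psiIso (hF.pull g)) (ComplexShape.up ℤ)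
  have h3 : ((HomSh.homShF ((EtModW.pull Λ g).obj F)).mapHomologicalComplex (ComplexShape.up ℤ)).map α ≫
      e.hom.app J' = e.hom.app _ ≫ ((R ⋙ P).mapHomologicalComplex (ComplexShape.up ℤ)).map α :=
    e.hom.naturality α
  have h4 : QuasiIso (((R ⋙ P).mapHomologicalComplex (ComplexShape.up ℤ)).map α) := h2
  have h5 : QuasiIso (((HomSh.homShF ((EtModW.pull Λ g).obj F)).mapHomologicalComplex
      (ComplexShape.up ℤ)).map α ≫ e.hom.app J') := by
    rw [h3]
    infer_instance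
  exact quasiIso_of_comp_right _ (e.hom.app J')

/-- The hypotheses of `BidLimSingle.quasiIso_cmp_single` for a sheaf representing sections over `U`. -/
theorem exists_data (hΛ : (n : Λ) = 0) (g : Y ⟶ X) (hg : GoodT g n) (U : X.Etale) [QuasiCompact U.hom]
    [QuasiSeparated U.hom]
    {F : EtModW.Mod Λ X} {δ : F.obj.obj (op U)} (hF : Rep U F δ)
    {J : CochainComplex (EtModW.Mod Λ X) ℤ} {J' : CochainComplex (EtModW.Mod Λ Y) ℤ} (a b : ℤ)
    [J.IsStrictlyGE a] [J'.IsStrictlyGE b] (hJ : ∀ n, Injective (J.X n)) (hJ' : ∀ n, Injective (J'.X n))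
    (α : ((EtModW.pull Λ g).mapHomologicalComplex (ComplexShape.up ℤ)).obj J ⟶ J') [QuasiIso α] :
    ∃ (R : EtModW.Mod Λ X ⥤ EtModW.Mod Λ X) (_ : R.Additive) (adj : (EtModD.tensorBi Λ X).flip.obj F ⊣ R)
      (R' : EtModW.Mod Λ Y ⥤ EtModW.Mod Λ Y) (_ : R'.Additive)
      (adj' : (EtModD.tensorBi Λ Y).flip.obj ((EtModW.pull Λ g).obj F) ⊣ R'),
      (∀ n, IsIso (BidLimSingle.thetaOf (a := EtModW.pull Λ g) (pullTensor Λ g).inv adj adj' (J.X n))) ∧
        QuasiIso ((R'.mapHomologicalComplex (ComplexShape.up ℤ)).map α) := by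
  refine ⟨HomSh.homShF F, inferInstance, adjF F, HomSh.homShF ((EtModW.pull Λ g).obj F), inferInstance,
    adjF ((EtModW.pull Λ g).obj F), fun m => ?_, quasiIso_homShF hΛ hg U hF a b hJ hJ' α⟩
  rw [thetaOf_eq]
  exact isIso_theta g U hF (J.X m) (hg.bc U _ (BidFin.killedBy_ab hΛ _))

/-- The comparison map is a quasi-isomorphism on `D^b_c`, for bounded below dualizing complexes. -/
theorem qis [IsNoetherianRing Λ] (hΛ : (n : Λ) = 0) [IsNoetherian X] {g : Y ⟶ X} (hg : GoodT g n)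
    (A : DualData (EtModD.tensorBi Λ X)) (A' : DualData (EtModD.tensorBi Λ Y)) (a b : ℤ)
    [A.J.IsStrictlyGE a] [A'.J.IsStrictlyGE b]
    (α : ((EtModW.pull Λ g).mapHomologicalComplex (ComplexShape.up ℤ)).obj A.J ⟶ A'.J) [QuasiIso α]
    (E : CochainComplex (EtModW.Mod Λ X) ℤ) (hE : EtModD.IsDbc (Q.obj E)) :
    QuasiIso (BidCmp.cmp (R := EtModW.pull Λ g) (pullTensor Λ g).inv α E) := by
  refine BidCmpAbs538.qis_of_way (a := EtModW.pull Λ g) (pullTensor Λ g).inv A A' α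
    (fun M => EtModW.IsConstructible Λ M) (fun M => ∃ U : X.Etale, IsAffine U.left ∧ M = Etcore.LFree.LM Λ U)
    (fun E => EtModD.IsDbc (Q.obj E)) a b ?_ ?_ E hE
  · intro F G _ _ η hF hG hF' hG' N hFN hGN h E hE
    exact LamPres857.quasiIso_of_LM η hF hG hF' hG' N hFN hGN (fun U hU => h _ ⟨U, hU, rfl⟩) E hE
  · rintro _ ⟨U, hU, rfl⟩
    have : QuasiCompact U.hom := quasiCompact_of_compactSpace (X := U.left) (Y := X) _
    have h0 : QuasiSeparatedSpace U.left := inferInstance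
    have : QuasiSeparated U.hom := QuasiSeparated.of_quasiSeparatedSpace (X := U.left) (Y := X) _
    exact exists_data hΛ g hg U (BidLimRep.rep_LM U) a b A.inj A'.inj α

/-- An exact functor turns an isomorphism in the derived category into an isomorphism. -/
theorem nonempty_iso_map {C D : Type*} [Category* C] [Abelian C] [Category* D] [Abelian D]
    [HasDerivedCategory.{u+2} C] [HasDerivedCategory.{u+2} D] (F : C ⥤ D) [F.Additive] [PreservesFiniteLimits F]
    [PreservesFiniteColimits F] {K L : CochainComplex C ℤ} (e : Nonempty (Q.obj K ≅ Q.obj L)) :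
    Nonempty (Q.obj ((F.mapHomologicalComplex (ComplexShape.up ℤ)).obj K) ≅
      Q.obj ((F.mapHomologicalComplex (ComplexShape.up ℤ)).obj L)) := by
  obtain ⟨e⟩ := e
  let G := F.mapDerivedCategory
  let i := F.mapDerivedCategoryFactors
  exact ⟨(i.app K).symm ≪≫ G.mapIso e ≪≫ i.app L⟩

theorem nonempty_iso_map_eq {C D : Type*} [Category* C] [Abelian C] [Category* D] [Abelian D]
    [HasDerivedCategory.{u+2} C] [HasDerivedCategory.{u+2} D] (F : C ⥤ D) [F.Additive] [PreservesFiniteLimits F]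
    [PreservesFiniteColimits F] {K L : CochainComplex C ℤ} (e : Nonempty (Q.obj K ≅ Q.obj L))
    (G : CochainComplex C ℤ ⥤ CochainComplex D ℤ) (hG : F.mapHomologicalComplex (ComplexShape.up ℤ) = G) :
    Nonempty (Q.obj (G.obj K) ≅ Q.obj (G.obj L)) := by
  subst hG
  exact nonempty_iso_map F e

/-- The comparison map in the derived category. -/
theorem nonempty_cmp {C C' : Type*} [Category* C] [Abelian C] [Category* C'] [Abelian C']
    [HasDerivedCategory.{u+2} C] [HasDerivedCategory.{u+2} C'] {T : C ⥤ C ⥤ C} [T.Additive] [∀ X, (T.obj X).Additive]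
    [∀ (K₁ K₂ : CochainComplex C ℤ), CochainComplex.HasMapBifunctor K₁ K₂ T]
    [∀ E : CochainComplex C ℤ, (T.map₂CochainComplex.flip.obj E).IsLeftAdjoint]
    {T' : C' ⥤ C' ⥤ C'} [T'.Additive] [∀ X, (T'.obj X).Additive]
    [∀ (K₁ K₂ : CochainComplex C' ℤ), CochainComplex.HasMapBifunctor K₁ K₂ T']
    [∀ E : CochainComplex C' ℤ, (T'.map₂CochainComplex.flip.obj E).IsLeftAdjoint]
    {R : C ⥤ C'} [R.Additive]
    (τ : R ⋙ T' ⋙ (Functor.whiskeringLeft _ _ _).obj R ⟶ T ⋙ (Functor.whiskeringRight _ _ _).obj R)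
    (A : DualData T) (A' : DualData T') (j : (R.mapHomologicalComplex (ComplexShape.up ℤ)).obj A.J ⟶ A'.J)
    (E : CochainComplex C ℤ) (h : QuasiIso (BidCmp.cmp (R := R) τ j E)) (F : CochainComplex C ℤ ⥤ CochainComplex C' ℤ)
    (hF : R.mapHomologicalComplex (ComplexShape.up ℤ) = F) :
    Nonempty (Q.obj (F.obj (A.D E)) ≅ Q.obj (A'.D (F.obj E))) := by
  subst hF
  have : IsIso (Q.map (BidCmp.cmp (R := R) τ j E)) := inferInstance
  exact ⟨asIso (Q.map (BidCmp.cmp (R := R) τ j E))⟩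

/-- Smooth comparison. -/
theorem nonempty_iso_aux [IsNoetherianRing Λ] (hΛ : (n : Λ) = 0) [IsNoetherian X] {g : Y ⟶ X} (hg : GoodT g n)
    (E : CochainComplex (EtModW.Mod Λ X) ℤ) (hE : EtModD.IsDbc (Q.obj E))
    (F : CochainComplex (EtModW.Mod Λ X) ℤ ⥤ CochainComplex (EtModW.Mod Λ Y) ℤ)
    (hF : (EtModW.pull Λ g).mapHomologicalComplex (ComplexShape.up ℤ) = F) :
    Nonempty (Q.obj (F.obj ((stdDual Λ X).D E)) ≅ Q.obj ((stdDual Λ Y).D (F.obj E))) := by
  obtain ⟨J, i, h1, h2, h3, h4⟩ := BidCmp538.exists_bdd (Λ := Λ) X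
  obtain ⟨J', i', h1', h2', h3', h4'⟩ := BidCmp538.exists_bdd (Λ := Λ) Y
  obtain ⟨α, hα⟩ := BidCmp538.exists_alpha g i i'
  obtain ⟨A, rfl⟩ : ∃ A : DualData (EtModD.tensorBi Λ X), A.J = J := ⟨DualEt.dualData J h2 h3, rfl⟩
  obtain ⟨A', rfl⟩ : ∃ A' : DualData (EtModD.tensorBi Λ Y), A'.J = J' := ⟨DualEt.dualData J' h2' h3', rfl⟩
  have hq := qis hΛ hg A A' 0 0 α E hE
  obtain ⟨e1⟩ := BidGlobU.nonempty_iso_of_qis (stdDual Λ X) A (stdι Λ X) (quasiIso_stdι Λ X) i h4 E
  obtain ⟨e2⟩ := nonempty_iso_map_eq (EtModW.pull Λ g) ⟨e1⟩ F hF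
  obtain ⟨e3⟩ := BidGlobU.nonempty_iso_of_qis A' (stdDual Λ Y) i' h4' (stdι Λ Y) (quasiIso_stdι Λ Y) (F.obj E)
  obtain ⟨e4⟩ := nonempty_cmp (pullTensor Λ g).inv A A' α E hq F hF
  exact ⟨e2 ≪≫ e4 ≪≫ e3⟩

/-- **Smooth comparison.** -/
theorem nonempty_iso [IsNoetherianRing Λ] (hΛ : (n : Λ) = 0) [IsNoetherian X] {g : Y ⟶ X} (hg : GoodT g n)
    (E : CochainComplex (EtModW.Mod Λ X) ℤ) (hE : EtModD.IsDbc (Q.obj E)) :
    Nonempty (Q.obj ((R g).obj ((stdDual Λ X).D E)) ≅ Q.obj ((stdDual Λ Y).D ((R g).obj E))) :=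
  nonempty_iso_aux hΛ hg E hE (R g) rfl

end Groth.Agent.EtDual.K336.SmCmp
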