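import Groth.Agent.EtDual.K336.GlobBase
import Groth.Agent.EtDual.K336.SmCmp
import Groth.Agent.EtpbcA.FinPush
import Groth.Agent.Sga4h.ModConstFT
import Groth.Agent.Etcore.LFinite

/-!
# The dual of `f⁻¹ (ip_* Λ)`

`S = Spec A`, `A` strictly henselian local noetherian with `D (ip_* Λ) ≅ (ip_* Λ)[-c]`, `f : X ⟶ S` smooth. Then
`D (f⁻¹ ip_* Λ) ≅ (f⁻¹ ip_* Λ)[-c]` (`dz`).
-/

set_option autoImplicit false
set_option linter.unusedSectionVars false
universe u

open CategoryTheory CategoryTheory.Limits AlgebraicGeometry Opposite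

attribute [local instance 5000] CategoryTheory.Abelian.toPreadditive
  CategoryTheory.Preadditive.preadditiveHasZeroMorphisms

namespace Groth.Agent.EtDual.K336.GlobS

attribute [local instance] HasDerivedCategory.standard
attribute [-instance] ULift.ring
open scoped Groth.Agent.Sga4h.ModInst
open Groth.Agent.Sga4h Groth.Agent.Sga4h.Refl DerivedCategory
open Groth.Agent.Sga4h.BidIndD48 Groth.Agent.Sga4h.BidIndLoc48 Groth.Agent.Sga4h.BidLoc48
open Groth.Agent.Sga4h.BidRed538Main Groth.Agent.EtDual.K336.StrictS Groth.Agent.EtDual.K336.StrictAbs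

section Abs

variable {C D : Type*} [Category* C] [Abelian C] [Category* D] [Abelian D]
    [HasDerivedCategory.{u+2} C] [HasDerivedCategory.{u+2} D] (F : C ⥤ D) [F.Additive] [PreservesFiniteLimits F]
    [PreservesFiniteColimits F]

theorem nonempty_map_shift {K : CochainComplex C ℤ} {M : C} {c : ℤ}
    (e : Nonempty (Q.obj K ≅ (Q.obj ((CochainComplex.singleFunctor C 0).obj M))⟦c⟧)) :
    Nonempty (Q.obj ((F.mapHomologicalComplex (ComplexShape.up ℤ)).obj K) ≅
      (Q.obj ((CochainComplex.singleFunctor D 0).obj (F.obj M)))⟦c⟧) := by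
  obtain ⟨e⟩ := e
  let G := F.mapDerivedCategory
  let i := F.mapDerivedCategoryFactors
  let s : (F.mapHomologicalComplex (ComplexShape.up ℤ)).obj ((CochainComplex.singleFunctor C 0).obj M) ≅
      (CochainComplex.singleFunctor D 0).obj (F.obj M) :=
    (HomologicalComplex.singleMapHomologicalComplex F (ComplexShape.up ℤ) 0).app M
  exact ⟨(i.app K).symm ≪≫ G.mapIso e ≪≫ (G.commShiftIso c).app _ ≪≫
    (shiftFunctor _ c).mapIso (i.app _ ≪≫ Q.mapIso s)⟩

/-- The dual of isomorphic complexes. -/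
theorem nonempty_D_congr {T : C ⥤ C ⥤ C} [T.Additive] [∀ X, (T.obj X).Additive]
    [∀ K₁ K₂ : CochainComplex C ℤ, CochainComplex.HasMapBifunctor K₁ K₂ T]
    [∀ E : CochainComplex C ℤ, (T.map₂CochainComplex.flip.obj E).IsLeftAdjoint] (A : DualData T)
    {K L : CochainComplex C ℤ} (e : K ≅ L) : Nonempty (Q.obj (A.D K) ≅ Q.obj (A.D L)) :=
  ⟨Q.mapIso (A.F.mapIso e.op).symm⟩

end Abs

variable {A : Type u} [CommRing A] [HenselianLocalRing A] [IsSepClosed (IsLocalRing.ResidueField A)]
  {n : ℕ} [NeZero n] {c e : ℤ} {X : Scheme.{u}} (f : X ⟶ Spec (CommRingCat.of A))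

theorem isNoetherianRing_Lam : IsNoetherianRing (Lam.{u} n) :=
  isNoetherianRing_of_ringEquiv (ZMod n) ULift.ringEquiv.symm

/-- The direct image of the constant sheaf is constructible. -/
theorem isConstructible_PP [IsNoetherianRing A] : EtModW.IsConstructible (Lam.{u} n) (PP A (Lam.{u} n)) := by
  have hcl : IsClosedImmersion (ip A) := IsClosedImmersion.spec_of_surjective _ IsLocalRing.residue_surjective
  have hfp : LocallyOfFinitePresentation (ip A) :=
    LocallyOfFinitePresentation.iff_locallyOfFiniteType.2 inferInstance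
  have h0 : EtModW.IsConstructible (Lam.{u} n) (EtModW.constMod (Lam.{u} n)
      (Spec (CommRingCat.of (IsLocalRing.ResidueField A))) (Lam.{u} n)) :=
    ModConstFT.isConstructible_const _
  rw [Groth.Agent.Etcore.LFinite.isConstructible_iff_ab] at h0 ⊢
  exact Groth.Agent.EtpbcA.FinPush.isConstructible_push (ip A) _ h0

/-- The dual of `Z`. -/
theorem dz [Smooth f] [IsNoetherianRing A] (hn : IsUnit (n : A)) (B : BaseData A n c) :
    Nonempty (Q.obj ((stdDual (Lam.{u} n) X).D ((CochainComplex.singleFunctor _ 0).obj (ZZ (n := n) f))) ≅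
      (Q.obj ((CochainComplex.singleFunctor _ 0).obj (ZZ (n := n) f)))⟦-c⟧) := by
  have hL : IsNoetherianRing (Lam.{u} n) := isNoetherianRing_Lam
  have hS : IsUnit (n : Γ(Spec (CommRingCat.of A), ⊤)) := by
    have := hn.map (Scheme.ΓSpecIso (CommRingCat.of A)).inv.hom
    rwa [map_natCast] at this
  have hN : IsNoetherian (Spec (CommRingCat.of A)) := inferInstance
  exact GenD.nonempty_D_pull (Λ := Lam.{u} n) (lam_zero n) (SmCmp.goodT_of_smooth f n hS) (PP A (Lam.{u} n))
    isConstructible_PP B.dP _ rfl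

end Groth.Agent.EtDual.K336.GlobS
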