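import Groth.Agent.EtDual.K336.GlobDual
import Groth.Agent.EtDual.K336.GlobDz
import Groth.Agent.EtDual.K336.GlobZ

/-!
# Biduality on a proper smooth scheme over a strictly local base

`S = Spec A`, `A` strictly henselian local noetherian with `BaseData A n c`, `f : X ⟶ S` smooth with relative duality
`Push Λ f e`, closed points of `X` lying over the closed point: `gdata` (the global hypotheses of the induction step)
and `bid` (the induction step).
-/

set_option autoImplicit false
set_option linter.unusedSectionVars false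
universe u

open CategoryTheory CategoryTheory.Limits AlgebraicGeometry Opposite

attribute [local instance 5000] CategoryTheory.Abelian.toPreadditive
  CategoryTheory.Preadditive.preadditiveHasZeroMorphisms

namespace Groth.Agent.EtDual.K336.GlobS

attribute [local instance] HasDerivedCategory.standard
attribute [-instance] ULift.ring
open scoped Groth.Agent.Sga4h.ModInst
open Groth.Agent.Sga4h Groth.Agent.Sga4h.Refl DerivedCategory
open Groth.Agent.Sga4h.BidIndD48 Groth.Agent.Sga4h.BidIndLoc48 Groth.Agent.Sga4h.BidLoc48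
open Groth.Agent.Sga4h.BidRed538Main Groth.Agent.EtDual.K336.StrictS Groth.Agent.EtDual.K336.StrictAbs

variable {A : Type u} [CommRing A] [HenselianLocalRing A] [IsSepClosed (IsLocalRing.ResidueField A)]
  {n : ℕ} [NeZero n] {c e : ℤ} {X : Scheme.{u}} (f : X ⟶ Spec (CommRingCat.of A))

/-- **The global data.** -/
theorem gdata [IsNoetherianRing A] [IsNoetherian X] [Smooth f] (hn : IsUnit (n : A)) (B : BaseData A n c)
    (hf : Push (Lam.{u} n) f e) (N : ℕ) (hN : e + c = N) :
    BidStep.GData (stdDual (Lam.{u} n) X) n ((CochainComplex.singleFunctor _ 0).obj (ZZ (n := n) f)) e c where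
  h1 := h1 f hf
  bdd := bdd B f hf N hN
  fin K hK i := fin f hf _ hK i
  t0 K hK i := t0 B f hf _ hK i
  t1 K hK i := (t1 B f hf _ hK i).trans
    (Nat.card_congr (Iso.homCongr ((singleFunctorIsoCompQ _ 0).app (ZZ (n := n) f)) (Iso.refl _)))
  t2 K hK i := (Nat.card_congr (Iso.homCongr (Iso.refl (Q.obj K)) ((shiftFunctor _ i).mapIso
    ((singleFunctorIsoCompQ _ 0).app (ZZ (n := n) f))))).symm.trans (t2 f hf _ hK i)
  dz := dz f hn B

/-- **The induction step over a strictly local base.** -/
theorem bid [IsNoetherianRing A] [IsNoetherian X] [Smooth f] (hn : IsUnit (n : A)) (B : BaseData A n c)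
    (hf : Push (Lam.{u} n) f e) (N : ℕ) (hN : e + c = N)
    (hcl : ∀ x : X, IsClosed {x} → f x = IsLocalRing.closedPoint A)
    (hsep : ∀ x : X, IsClosed {x} → IsSepClosed (X.residueField x))
    {ι : Type*} [Finite ι] (X' : ι → Scheme.{u}) (g : ∀ i, X' i ⟶ X)
    [∀ i, CompactSpace (X' i)] [∀ i, QuasiSeparatedSpace (X' i)]
    (hcov : ∀ x : X, (∀ i, x ∉ Set.range (g i)) → IsClosed {x})
    (hg : ∀ i, BidGeoLim.IsEtLim (g i))
    (hB : ∀ i, Bid (stdDual (Lam.{u} n) (X' i))) : Bid (stdDual (Lam.{u} n) X) := by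
  have hfin : Finite (Lam.{u} n) := inferInstance
  have hL : IsNoetherianRing (Lam.{u} n) := isNoetherianRing_Lam
  exact BidStep.bid_of_loc hsep (NeZero.pos n) (lam_zero n) (stdDual (Lam.{u} n) X)
    (TensorUnit.tensorUnitRight (Lam.{u} n) X) (stdι _ _) (quasiIso_stdι _ _) (ZZ (n := n) f)
    (gdata f hn B hf N hN) (hZ f hcl) X' g hcov (fun i => stdDual (Lam.{u} n) (X' i))
    (fun i => BidCmp538.loc _ _ _ inferInstance (hg i)) hB

end Groth.Agent.EtDual.K336.GlobS
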