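import Groth.Agent.S3738
import Groth.Agent.Etdl.H428.PowSer
import Groth.Agent.CalgB.PowField
import Groth.Agent.Etcore.LPullComp
import Groth.Agent.Sga4h.LFinSupp
import Groth.Agent.Sga4h.LFinClass

/-!
# Purity at the closed point of `Spec K[[x_1, …, x_M]]`

* `subsingleton_HY`, `nonempty_HY`: the local cohomology at the closed point (S3738);
* `nonempty_push_comp`: `(ε ≫ t)_* Λ ≅ t_* Λ` for an isomorphism `ε`.
-/

set_option autoImplicit false
universe u

open CategoryTheory CategoryTheory.Limits AlgebraicGeometry Opposite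

namespace Groth.Agent.EtDual.K336.SPGeo

variable (M : ℕ) (K : Type u) [Field K]

/-- The coordinates. -/
noncomputable def y (i : Fin M) : Γ(Spec (CommRingCat.of (MvPowerSeries (Fin M) K)), ⊤) :=
  (Scheme.ΓSpecIso (CommRingCat.of (MvPowerSeries (Fin M) K))).inv (MvPowerSeries.X i)

theorem nonempty_quot : Nonempty (IsLocalRing.ResidueField (MvPowerSeries (Fin M) K) ≃+*
    (Γ(Spec (CommRingCat.of (MvPowerSeries (Fin M) K)), ⊤) ⧸ Ideal.span (Set.range (y M K)))) := by
  let e : MvPowerSeries (Fin M) K ≃+* Γ(Spec (CommRingCat.of (MvPowerSeries (Fin M) K)), ⊤) :=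
    (Scheme.ΓSpecIso (CommRingCat.of (MvPowerSeries (Fin M) K))).symm.commRingCatIsoToRingEquiv
  refine ⟨Ideal.quotientEquiv (IsLocalRing.maximalIdeal (MvPowerSeries (Fin M) K)) _ e ?_⟩
  rw [CalgB.PowField.maximalIdeal_eq, Ideal.map_span, ← Set.range_comp]
  rfl

theorem isRegular_quot : IsRegularLocalRing
    (Γ(Spec (CommRingCat.of (MvPowerSeries (Fin M) K)), ⊤) ⧸ Ideal.span (Set.range (y M K))) := by
  obtain ⟨e⟩ := nonempty_quot M K
  exact IsRegularLocalRing.of_ringEquiv e

theorem ringKrullDim_quot : ringKrullDim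
    (Γ(Spec (CommRingCat.of (MvPowerSeries (Fin M) K)), ⊤) ⧸ Ideal.span (Set.range (y M K))) + (M : ℕ) = (M : ℕ) := by
  obtain ⟨e⟩ := nonempty_quot M K
  rw [← ringKrullDim_eq_of_ringEquiv e, ringKrullDim_eq_zero_of_field, zero_add]

theorem mem_range_iff (x : Spec (CommRingCat.of (MvPowerSeries (Fin M) K))) :
    x ∈ Set.range (⨆ i : Fin M, (Spec (CommRingCat.of (MvPowerSeries (Fin M) K))).basicOpen (y M K i)).ι ↔
      x ≠ IsLocalRing.closedPoint (MvPowerSeries (Fin M) K) := by
  rw [Scheme.Opens.range_ι]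
  have h1 : ∀ i, (Spec (CommRingCat.of (MvPowerSeries (Fin M) K))).basicOpen (y M K i) =
      PrimeSpectrum.basicOpen (MvPowerSeries.X i) := fun i => basicOpen_eq_of_affine _
  rw [SetLike.mem_coe, TopologicalSpace.Opens.mem_iSup]
  constructor
  · rintro ⟨i, hi⟩ rfl
    rw [h1] at hi
    refine hi ?_
    change MvPowerSeries.X i ∈ IsLocalRing.maximalIdeal (MvPowerSeries (Fin M) K)
    rw [CalgB.PowField.maximalIdeal_eq]
    exact Ideal.subset_span ⟨i, rfl⟩
  · intro hx
    by_contra h
    push Not at h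
    refine hx (PrimeSpectrum.ext ?_)
    have h2 : IsLocalRing.maximalIdeal (MvPowerSeries (Fin M) K) ≤ x.asIdeal := by
      rw [CalgB.PowField.maximalIdeal_eq, Ideal.span_le]
      rintro _ ⟨i, rfl⟩
      have h3 := h i
      rw [h1] at h3
      exact not_not.1 h3
    exact ((IsLocalRing.maximalIdeal.isMaximal _).eq_of_le x.2.ne_top h2).symm

variable [IsAlgClosed K] [CharZero K] (n : ℕ) (hn : 0 < n)

/-- The complement of the closed point. -/
noncomputable abbrev jj : (⨆ i : Fin M, (Spec (CommRingCat.of (MvPowerSeries (Fin M) K))).basicOpen (y M K i) : Scheme.Opens _).toScheme ⟶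
    Spec (CommRingCat.of (MvPowerSeries (Fin M) K)) :=
  (⨆ i : Fin M, (Spec (CommRingCat.of (MvPowerSeries (Fin M) K))).basicOpen (y M K i)).ι

include hn in
theorem subsingleton_HY (q : ℕ) (hq : q ≠ 2 * M) :
    Subsingleton ((EtDual.HY (jj M K) q).obj (EtCoh.const (Spec (CommRingCat.of (MvPowerSeries (Fin M) K))) (ZMod n)) :
      Type (u + 1)) :=
  AddCommGrpCat.subsingleton_of_isZero ((S3738.result K M M (y M K) (isRegular_quot M K) (ringKrullDim_quot M K) n hn).1 q hq)

include hn in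
theorem nonempty_HY :
    Nonempty (((EtDual.HY (jj M K) (2 * M)).obj
      (EtCoh.const (Spec (CommRingCat.of (MvPowerSeries (Fin M) K))) (ZMod n)) : Type (u + 1)) ≃+ ZMod n) :=
  (S3738.result K M M (y M K) (isRegular_quot M K) (ringKrullDim_quot M K) n hn).2

end Groth.Agent.EtDual.K336.SPGeo
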