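import Groth.Agent.EtDual.K336.DPMain
import Groth.Agent.EtDual.K336.SPGeo
import Groth.Agent.EtDual.K336.GlobStep
import Groth.Agent.EtDepth.K973.CoreStmt
import Groth.Agent.Sga4h.BidGeoCmp

/-!
# The global data over `Spec K[[x_1, …, x_M]]`

* `dP`: `D (ip_* Λ) ≅ (ip_* Λ)[-2M]` on `Spec K[[x_1, …, x_M]]`, `K` algebraically closed of characteristic zero;
* `gdata`: the two dualities on `It (SP M K) N`, in the form `K973.CoreStmt.DualP.g`.
-/

set_option autoImplicit false
set_option linter.unusedSectionVars false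
universe u

open CategoryTheory CategoryTheory.Limits AlgebraicGeometry Opposite

attribute [local instance 5000] CategoryTheory.Abelian.toPreadditive
  CategoryTheory.Preadditive.preadditiveHasZeroMorphisms

namespace Groth.Agent.EtDual.K336.SPg

attribute [local instance] HasDerivedCategory.standard
attribute [-instance] ULift.ring
open scoped Groth.Agent.Sga4h.ModInst
open Groth.Agent.Sga4h Groth.Agent.Sga4h.Refl DerivedCategory
open Groth.Agent.Sga4h.BidIndD48 Groth.Agent.Sga4h.BidIndLoc48 Groth.Agent.Sga4h.BidLoc48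
open Groth.Agent.Sga4h.BidRed538Main Groth.Agent.EtDual.K336.StrictS Groth.Agent.EtDual.K336.StrictAbs
open Groth.Agent.EtDual.K336.GlobS Groth.Agent.Sga4h.BidGeoIt K973.CoreStmt Groth.Agent.Etdl.H434.Defs

section Congr

variable {Λ : Type (u + 1)} [CommRing Λ] {X : Scheme.{u}}

/-- The global data only depend on `Z` up to isomorphism. -/
theorem gdata_congr {A : DualData (EtModD.tensorBi Λ X)} {n : ℕ} {Z Z' : CochainComplex (EtModW.Mod Λ X) ℤ}
    {e c : ℤ} (i : Z ≅ Z') (G : BidStep.GData A n Z e c) : BidStep.GData A n Z' e c where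
  h1 := G.h1
  bdd := G.bdd
  fin := G.fin
  t0 := G.t0
  t1 K hK q := (G.t1 K hK q).trans (Nat.card_congr (Iso.homCongr (Q.mapIso i) (Iso.refl _)))
  t2 K hK q := (Nat.card_congr (Iso.homCongr (Iso.refl (Q.obj K)) ((shiftFunctor _ q).mapIso (Q.mapIso i)))).symm.trans
    (G.t2 K hK q)
  dz := by
    obtain ⟨z⟩ := G.dz
    obtain ⟨w⟩ := GlobS.nonempty_D_congr A i
    exact ⟨w.symm ≪≫ z ≪≫ (shiftFunctor _ (-c)).mapIso (Q.mapIso i)⟩

end Congr

section Base

/-- Direct images of the constant sheaf along an isomorphism followed by `t`. -/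
theorem nonempty_push_comp {Λ : Type (u + 1)} [CommRing Λ] {X Y Z : Scheme.{u}} (ε : X ⟶ Y) [IsIso ε] (t : Y ⟶ Z) :
    Nonempty ((EtModW.push Λ (ε ≫ t)).obj (EtModW.constMod Λ X Λ) ≅
      (EtModW.push Λ t).obj (EtModW.constMod Λ Y Λ)) := by
  have h1 : LFinSupp.ZeroOff (EtModW.constMod Λ Y Λ) (Set.range ε) := by
    intro U s x hx
    exact absurd (ε.surjective (U.hom x)) hx
  have h2 := LFinSupp.isIso_unit_of_zeroOff ε (EtModW.constMod Λ Y Λ) h1
  obtain ⟨e⟩ := LFinClass.nonempty_pull_constMod (Λ := Λ) (M := Λ) ε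
  let i1 : EtModW.constMod Λ Y Λ ≅ (EtModW.push Λ ε).obj (EtModW.constMod Λ X Λ) :=
    asIso ((Etcore.LPull.pullPushAdj ε).unit.app (EtModW.constMod Λ Y Λ)) ≪≫ (EtModW.push Λ ε).mapIso e
  exact ⟨((Etcore.LPullComp.pushComp Λ t ε).app _).symm ≪≫ (EtModW.push Λ t).mapIso i1.symm⟩

variable (M : ℕ) (K : Type u) [Field K]

instance isSepClosed_residueField [IsSepClosed K] :
    IsSepClosed (IsLocalRing.ResidueField (MvPowerSeries (Fin M) K)) :=
  Etdl.H428.PowSer.isSepClosed_residueField K M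

/-- The comparison of the closed points. -/
noncomputable def ε : Spec (CommRingCat.of (IsLocalRing.ResidueField (MvPowerSeries (Fin M) K))) ⟶
    Spec (CommRingCat.of K) :=
  Spec.map (CommRingCat.ofHom (Etdl.H428.PowSer.residueEquiv K M : K →+* _))

instance isIso_ε : IsIso (ε M K) := by
  have : IsIso (CommRingCat.ofHom
      (Etdl.H428.PowSer.residueEquiv K M : K →+* IsLocalRing.ResidueField (MvPowerSeries (Fin M) K))) :=
    (Etdl.H428.PowSer.residueEquiv K M).toCommRingCatIso.isIso_hom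
  exact inferInstanceAs (IsIso (Spec.map _))

theorem ε_comp : ε M K ≫ tpt M K = ip (MvPowerSeries (Fin M) K) := by
  unfold ε
  rw [← Spec.map_comp, ← CommRingCat.ofHom_comp]
  congr 2
  ext a
  have h1 : algebraMap K (IsLocalRing.ResidueField (MvPowerSeries (Fin M) K)) (MvPowerSeries.constantCoeff a) =
      IsLocalRing.residue _ (MvPowerSeries.C (MvPowerSeries.constantCoeff a)) := rfl
  refine Eq.trans (b := algebraMap K (IsLocalRing.ResidueField (MvPowerSeries (Fin M) K))
    (MvPowerSeries.constantCoeff a)) rfl ?_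
  rw [h1, ← sub_eq_zero, ← map_sub, IsLocalRing.residue_eq_zero_iff, IsLocalRing.mem_maximalIdeal, mem_nonunits_iff,
    MvPowerSeries.isUnit_iff_constantCoeff, map_sub, MvPowerSeries.constantCoeff_C, sub_self]
  exact not_isUnit_zero

/-- The two forms of the direct image of the constant sheaf. -/
theorem nonempty_PP_tpt [IsSepClosed K] (Λ : Type (u + 1)) [CommRing Λ] :
    Nonempty (PP (MvPowerSeries (Fin M) K) Λ ≅ (EtModW.push Λ (tpt M K)).obj (EtModW.constMod Λ _ Λ)) := by
  have h := nonempty_push_comp (Λ := Λ) (ε M K) (tpt M K)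
  rwa [ε_comp] at h

end Base

section Main

variable (m : ℕ) [NeZero m] (M : ℕ) (K : Type u) [Field K] [IsAlgClosed K] [CharZero K]

theorem isUnit_natCast : IsUnit (m : MvPowerSeries (Fin M) K) := by
  have h : IsUnit (m : K) := isUnit_iff_ne_zero.2 (Nat.cast_ne_zero.2 (NeZero.ne m))
  have h1 := h.map (MvPowerSeries.C (σ := Fin M) (R := K))
  rwa [map_natCast] at h1

/-- **The dual of `ip_* Λ` on `Spec K[[x_1, …, x_M]]`.** -/
theorem dP : Nonempty (Q.obj ((stdDual (GlobS.Lam.{u} m) (Spec (CommRingCat.of (MvPowerSeries (Fin M) K)))).D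
      ((CochainComplex.singleFunctor _ 0).obj (PP (MvPowerSeries (Fin M) K) (GlobS.Lam.{u} m)))) ≅
      (Q.obj ((CochainComplex.singleFunctor _ 0).obj (PP (MvPowerSeries (Fin M) K) (GlobS.Lam.{u} m))))⟦-(2 * M : ℤ)⟧) := by
  have h := nonempty_dP_of_HY (A := MvPowerSeries (Fin M) K) (n := m) (isUnit_natCast m M K) (SPGeo.jj M K)
    (SPGeo.mem_range_iff M K) (2 * M) (SPGeo.subsingleton_HY M K m (NeZero.pos m)) (SPGeo.nonempty_HY M K m (NeZero.pos m))
  have h2 : ((2 * M : ℕ) : ℤ) = 2 * (M : ℤ) := by push_cast; rfl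
  rwa [h2] at h

/-- The data on the base. -/
theorem baseData (hB : Bid (stdDual (GlobS.Lam.{u} m) (SP M K))) :
    BaseData (MvPowerSeries (Fin M) K) m (2 * M) where
  bid := hB
  dP := dP m M K

/-- **The global data on `It (SP M K) N`.** -/
theorem gdata (N : ℕ) (hB : Bid (stdDual (GlobS.Lam.{u} m) (SP M K)))
    (hf : Push (GlobS.Lam.{u} m) (str (SP M K) N) (2 * N)) :
    BidStep.GData (stdDual (GlobS.Lam.{u} m) (It (SP M K) N)) m
      ((CochainComplex.singleFunctor (EtModW.Mod (GlobS.Lam.{u} m) (It (SP M K) N)) 0).obj (Zc m M N K))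
      (2 * N) (2 * M) := by
  have hs : SmoothOfRelativeDimension N (str (SP M K) N) := BidGeoCmp.smooth_str (SP M K) N
  have hs' : Smooth (str (SP M K) N) := SmoothOfRelativeDimension.smooth N (str (SP M K) N)
  have hp : IsProper (str (SP M K) N) := isProper_str _ _
  have hN : IsNoetherianRing (MvPowerSeries (Fin M) K) := inferInstance
  have hX : IsNoetherian (It (SP M K) N) := by
    have : IsLocallyNoetherian (It (SP M K) N) := LocallyOfFiniteType.isLocallyNoetherian (str (SP M K) N)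
    have : CompactSpace (It (SP M K) N) := QuasiCompact.compactSpace_of_compactSpace (str (SP M K) N)
    exact {}
  obtain ⟨e⟩ := nonempty_PP_tpt M K (GlobS.Lam.{u} m)
  refine gdata_congr ((CochainComplex.singleFunctor _ 0).mapIso ((EtModW.pull (GlobS.Lam.{u} m) (str (SP M K) N)).mapIso e))
    (GlobS.gdata (str (SP M K) N) (isUnit_natCast m M K) (baseData m M K hB) hf (2 * N + 2 * M) (by push_cast; rfl))

end Main

end Groth.Agent.EtDual.K336.SPg
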