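import Groth.Agent.CurvesC.Dual1
import Groth.Agent.Localalg.DProj
import Groth.Agent.EtDual.K336.BidStepAbs

/-!
# Local duality, abstractly

`C` abelian with duality data `A : DualData T`, `I` a unit for `T`, projective, with `I[0] ⟶ A.J` a quasi-isomorphism; `P` an
injective object with `D P ≅ P[-c]` and `Hom(F, P) ≃+ (Hom(I, F) →+ ℤ/n)` for all `F`. Then
* `homP`: `Hom(Y, P[r]) ≃+ (Hom(I, Y[-r]) →+ ℤ/n)`;
* `local_dual`: `Hom(P, K[j]) ≃+ (Hom(I, (D K)[c - j]) →+ ℤ/n)` for `K` reflexive.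
-/

set_option autoImplicit false
set_option backward.defeqAttrib.useBackward true
set_option backward.isDefEq.respectTransparency false

universe w v₁ u₁

namespace Groth.Agent.EtDual.K336.StrictAbs

open CategoryTheory Category Limits HomologicalComplex CochainComplex Opposite ZeroObject Pretriangulated
open Groth.Agent.Sga4h.DualCx Groth.Agent.Sga4h.DualSelf Groth.Agent.Sga4h.Refl
open Groth.Agent.Sga4h Groth.Agent.Sga4h.BidGlobU DerivedCategory

section Basic

variable {C : Type u₁} [Category.{v₁} C] [Abelian C] [HasDerivedCategory.{w} C]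

/-- Isomorphic objects have isomorphic groups of morphisms. -/
def homAddCongr {D : Type*} [Category* D] [Preadditive D] {X X' Y Y' : D} (e : X ≅ X') (f : Y ≅ Y') :
    (X ⟶ Y) ≃+ (X' ⟶ Y') where
  toFun g := e.inv ≫ g ≫ f.hom
  invFun g := e.hom ≫ g ≫ f.inv
  left_inv g := by simp
  right_inv g := by simp
  map_add' g h := by simp

/-- `Hom_D(P[0], Y[i]) ≃+ Hom(P, H^i(Y))` for `P` projective. -/
theorem nonempty_homProj (P : C) [Projective P] (Y : DerivedCategory C) (i : ℤ) :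
    Nonempty (((DerivedCategory.singleFunctor C 0).obj P ⟶ Y⟦i⟧) ≃+
      (P ⟶ (DerivedCategory.homologyFunctor C i).obj Y)) := by
  let e1 := AddEquiv.ofBijective (Localalg.DProj.toHomology P (Y⟦i⟧)) (Localalg.DProj.toHomology_bijective P (Y⟦i⟧))
  exact ⟨e1.trans (homAddCongr (Iso.refl _) (((DerivedCategory.homologyFunctor C 0).shiftIso i 0 i (by lia)).app Y))⟩

/-- `Hom_D(Y, J[0][r]) ≃+ Hom(H^{-r}(Y), J)` for `J` injective. -/
theorem nonempty_homInj (J : C) [Injective J] (Y : DerivedCategory C) (r : ℤ) :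
    Nonempty ((Y ⟶ ((DerivedCategory.singleFunctor C 0).obj J)⟦r⟧) ≃+
      ((DerivedCategory.homologyFunctor C (-r)).obj Y ⟶ J)) := by
  have e1 : ((DerivedCategory.singleFunctor C 0).obj J)⟦r⟧ ≅ (DerivedCategory.singleFunctor C (-r)).obj J :=
    ((DerivedCategory.singleFunctors C).shiftIso r (-r) 0 (by lia)).app J
  let h : (Y ⟶ (DerivedCategory.singleFunctor C (-r)).obj J) →+ ((DerivedCategory.homologyFunctor C (-r)).obj Y ⟶
      (DerivedCategory.homologyFunctor C (-r)).obj ((DerivedCategory.singleFunctor C (-r)).obj J)) :=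
    (DerivedCategory.homologyFunctor C (-r)).mapAddHom
  let e2 := AddEquiv.ofBijective h (CurvesC.Dual1.homologyFunctor_map_bijective Y J (-r))
  have e3 : (DerivedCategory.homologyFunctor C (-r)).obj ((DerivedCategory.singleFunctor C (-r)).obj J) ≅ J :=
    (DerivedCategory.homologyFunctor C (-r)).mapIso ((DerivedCategory.singleFunctorIsoCompQ C (-r)).app J) ≪≫
      (homologyFunctorFactors C (-r)).app _ ≪≫
      (HomologicalComplex.homologyFunctorSingleIso C (ComplexShape.up ℤ) (-r)).app J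
  exact ⟨(homAddCongr (Iso.refl _) e1).trans (e2.trans (homAddCongr (Iso.refl _) e3))⟩

end Basic

variable {C : Type u₁} [Category.{v₁} C] [Abelian C] [HasDerivedCategory.{w} C] {T : C ⥤ C ⥤ C} [T.Additive]
  [∀ X, (T.obj X).Additive]
  [∀ (K₁ K₂ : CochainComplex C ℤ), CochainComplex.HasMapBifunctor K₁ K₂ T]
  [∀ E : CochainComplex C ℤ, (T.map₂CochainComplex.flip.obj E).IsLeftAdjoint]
  [∀ (J : Type), HasColimitsOfShape (Discrete J) C]
  [∀ (J : Type), (colim : (Discrete J ⥤ C) ⥤ C).PreservesMonomorphisms]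

variable (A : DualData T)

theorem additive_DD : (DD A).Additive := by
  have : (DD A).IsRightAdjoint := ⟨_, ⟨adjDD A⟩⟩
  have : PreservesLimitsOfSize.{0, 0} (DD A) := (adjDD A).rightAdjoint_preservesLimits
  have : HasBinaryBiproducts (DerivedCategory C)ᵒᵖ := HasBinaryBiproducts.of_hasBinaryProducts
  have := preservesBinaryBiproducts_of_preservesBinaryProducts (DD A)
  exact Functor.additive_of_preservesBinaryBiproducts _

/-- `Hom_D(K, D E) ≃+ Hom_D(E, D K)`. -/
theorem nonempty_selfAddEquiv (K E : CochainComplex C ℤ) :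
    Nonempty ((Q.obj K ⟶ Q.obj (A.D E)) ≃+ (Q.obj E ⟶ Q.obj (A.D K))) := by
  have := additive_DD A
  let e1 : ((DD A).rightOp.obj (Q.obj K) ⟶ op (Q.obj E)) ≃+ (Q.obj K ⟶ (DD A).obj (op (Q.obj E))) :=
    { (adjDD A).homEquiv (Q.obj K) (op (Q.obj E)) with
      map_add' := fun f g => by
        change (adjDD A).homEquiv (Q.obj K) (op (Q.obj E)) (f + g) =
          (adjDD A).homEquiv (Q.obj K) (op (Q.obj E)) f + (adjDD A).homEquiv (Q.obj K) (op (Q.obj E)) g
        rw [Adjunction.homEquiv_unit, Adjunction.homEquiv_unit, Adjunction.homEquiv_unit, Functor.map_add,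
          Preadditive.comp_add] }
  let e2 : ((DD A).rightOp.obj (Q.obj K) ⟶ op (Q.obj E)) ≃+ (Q.obj E ⟶ (DD A).obj (op (Q.obj K))) :=
    { toFun := fun f => f.unop
      invFun := fun f => f.op
      left_inv := fun f => rfl
      right_inv := fun f => rfl
      map_add' := fun f g => rfl }
  exact ⟨(homAddCongr (Iso.refl _) ((DDIso A).app (op E)).symm).trans
    (e1.symm.trans (e2.trans (homAddCongr (Iso.refl _) ((DDIso A).app (op K)))))⟩

/-- `Hom_D(E, (D K)[i]) ≃+ Hom_D(K, (D E)[i])`. -/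
theorem nonempty_selfAddEquiv_shift (K E : CochainComplex C ℤ) (i : ℤ) :
    Nonempty ((Q.obj E ⟶ (Q.obj (A.D K))⟦i⟧) ≃+ (Q.obj K ⟶ (Q.obj (A.D E))⟦i⟧)) := by
  obtain ⟨e4⟩ := BidStepAbs.nonempty_shiftNeg A E i
  have e5 : Q.obj (E⟦-i⟧) ≅ (Q.obj E)⟦-i⟧ := (Q.commShiftIso (-i)).app E
  obtain ⟨h6⟩ := nonempty_selfAddEquiv A (E⟦-i⟧) K
  have e7 : ((Q.obj E)⟦-i⟧)⟦i⟧ ≅ Q.obj E :=
    ((CategoryTheory.shiftFunctorAdd' (DerivedCategory C) (-i) i 0 (by lia)).app _).symm ≪≫
      (shiftFunctorZero _ ℤ).app _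
  let e8 : ((Q.obj E)⟦-i⟧ ⟶ Q.obj (A.D K)) ≃+ (((Q.obj E)⟦-i⟧)⟦i⟧ ⟶ (Q.obj (A.D K))⟦i⟧) :=
    { (Functor.FullyFaithful.ofFullyFaithful
        (CategoryTheory.shiftFunctor (DerivedCategory C) i)).homEquiv with
      map_add' := fun f g => (CategoryTheory.shiftFunctor (DerivedCategory C) i).map_add }
  let e9 := e8.trans (homAddCongr e7 (Iso.refl ((Q.obj (A.D K))⟦i⟧)))
  exact ⟨e9.symm.trans ((homAddCongr e5.symm (Iso.refl _)).trans (h6.trans (homAddCongr (Iso.refl _) e4)))⟩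

section Local

variable {I P : C} [Projective I] [Injective P] {n : ℕ}
  (hP : ∀ F : C, Nonempty ((F ⟶ P) ≃+ ((I ⟶ F) →+ ZMod n)))

omit [∀ (J : Type), HasColimitsOfShape (Discrete J) C]
  [∀ (J : Type), (colim : (Discrete J ⥤ C) ⥤ C).PreservesMonomorphisms] in
include hP in
/-- `Hom(Y, P[r]) ≃+ (Hom(I, Y[-r]) →+ ℤ/n)`. -/
theorem homP (Y : DerivedCategory C) (r : ℤ) :
    Nonempty ((Y ⟶ ((DerivedCategory.singleFunctor C 0).obj P)⟦r⟧) ≃+
      (((DerivedCategory.singleFunctor C 0).obj I ⟶ Y⟦-r⟧) →+ ZMod n)) := by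
  obtain ⟨e1⟩ := nonempty_homInj P Y r
  obtain ⟨e2⟩ := hP ((DerivedCategory.homologyFunctor C (-r)).obj Y)
  obtain ⟨e3⟩ := nonempty_homProj I Y (-r)
  exact ⟨e1.trans (e2.trans (AddEquiv.addMonoidHomCongrLeft e3.symm))⟩

variable (ρ : T.flip.obj I ≅ 𝟭 C) (j : (CochainComplex.singleFunctor C 0).obj I ⟶ A.J) (hj : QuasiIso j) {c : ℤ}
  (hc : Nonempty (Q.obj (A.D ((CochainComplex.singleFunctor C 0).obj P)) ≅
    (Q.obj ((CochainComplex.singleFunctor C 0).obj P))⟦-c⟧))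

include hP hc in
/-- **Local duality**: `Hom(P, K[j]) ≃+ (Hom(I, (D K)[c - j]) →+ ℤ/n)` for `K` reflexive. -/
theorem local_dual (K : CochainComplex C ℤ) (hK : A.Refl K) (i : ℤ) :
    Nonempty (((DerivedCategory.singleFunctor C 0).obj P ⟶ (Q.obj K)⟦i⟧) ≃+
      (((DerivedCategory.singleFunctor C 0).obj I ⟶ (Q.obj (A.D K))⟦c - i⟧) →+ ZMod n)) := by
  obtain ⟨z⟩ := hc
  let eP : (DerivedCategory.singleFunctor C 0).obj P ≅ Q.obj ((CochainComplex.singleFunctor C 0).obj P) :=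
    (DerivedCategory.singleFunctorIsoCompQ C 0).app P
  have h1 : IsIso (Q.map (A.ev K)) := (isIso_Q_map_iff_quasiIso _ _).2 hK.qis
  obtain ⟨e1⟩ := nonempty_selfAddEquiv_shift A (A.D K) ((CochainComplex.singleFunctor C 0).obj P) i
  let e2 : (Q.obj (A.D ((CochainComplex.singleFunctor C 0).obj P)))⟦i⟧ ≅
      ((DerivedCategory.singleFunctor C 0).obj P)⟦i - c⟧ :=
    (CategoryTheory.shiftFunctor _ i).mapIso z ≪≫
      ((CategoryTheory.shiftFunctorAdd' (DerivedCategory C) (-c) i (i - c) (by lia)).app _).symm ≪≫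
      (CategoryTheory.shiftFunctor _ (i - c)).mapIso eP.symm
  obtain ⟨e3⟩ := homP hP (Q.obj (A.D K)) (i - c)
  rw [show -(i - c) = c - i by lia] at e3
  exact ⟨(homAddCongr eP ((CategoryTheory.shiftFunctor _ i).mapIso (asIso (Q.map (A.ev K))))).trans
    (e1.trans ((homAddCongr (Iso.refl _) e2).trans e3))⟩

end Local

end Groth.Agent.EtDual.K336.StrictAbs
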