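import Groth.Agent.EtpbcB.StrictLocStar
import Groth.Agent.Sga4h.ModPointCons
import Groth.Agent.Sga4h.LFinT
import Groth.Agent.Sga4h.BidConMod48
import Groth.Agent.Etrest.ModAb
import Groth.Agent.Etrest.ModCons
import Groth.Prelude.Def_EtDl
import Groth.Agent.EtpbcA.StalkTools
import Groth.Agent.EtDual.K336.StrictAbs

/-!
# Sheaves of modules on strictly local schemes

`A` strictly henselian local, `ip A : Spec κ ⟶ Spec A` the closed point, `PP A = ip_* Λ`.
* `projective_constMod`: the constant sheaf `Λ` is projective;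
* `injective_PP`: `ip_* Λ` is injective if `Λ` is self-injective;
* `nonempty_homPP`: `Hom(F, ip_* Λ) ≃+ (Hom(Λ, F) →+ ℤ/n)` for `Λ = ℤ/n`.
-/

set_option autoImplicit false

universe u

open CategoryTheory CategoryTheory.Limits AlgebraicGeometry Opposite

attribute [local instance 5000] CategoryTheory.Abelian.toPreadditive
  CategoryTheory.Preadditive.preadditiveHasZeroMorphisms

namespace Groth.Agent.EtDual.K336.StrictS

open Groth.Agent.Sga4h Groth.Agent.Sga4h.ModPoint Groth.Agent.Etrest.ModAb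
open Groth.Agent.EtpbcA.StalkTools Groth.Agent.EtpbcB.BCIso Groth.Agent.EtDual.K336.StrictAbs

section Const

variable {Λ : Type (u + 1)} [CommRing Λ] {X : Scheme.{u}}

/-- The section corresponding to a morphism from the constant sheaf. -/
theorem homConstEquiv_comp {F G : EtModW.Mod Λ X} (f : EtModW.constMod Λ X Λ ⟶ F) (φ : F ⟶ G) :
    BidConMod48.homConstEquiv G (f ≫ φ) = φ.hom.app (op (EtCoh.top X)) (BidConMod48.homConstEquiv F f) := by
  have h : (constantSheafAdj X.smallEtaleTopology (ModuleCat.{u + 1} Λ) (EtCore.topIsTerminal X)).homEquiv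
      (ModuleCat.of Λ Λ) G (f ≫ φ) =
    (constantSheafAdj X.smallEtaleTopology (ModuleCat.{u + 1} Λ) (EtCore.topIsTerminal X)).homEquiv
      (ModuleCat.of Λ Λ) F f ≫ φ.hom.app (op (EtCoh.top X)) := Adjunction.homEquiv_naturality_right _ _ _
  exact congrArg (fun k => k.hom (1 : Λ)) h

/-- Morphisms from the constant sheaf `Λ` are global sections, additively. -/
noncomputable def homConstAddEquiv (F : EtModW.Mod Λ X) :
    (EtModW.constMod Λ X Λ ⟶ F) ≃+ EtModW.sect Λ F (EtCoh.top X) :=
  { BidConMod48.homConstEquiv F with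
    map_add' := fun f g => by
      have h : ∀ k : EtModW.constMod Λ X Λ ⟶ F, BidConMod48.homConstEquiv F k =
          k.hom.app (op (EtCoh.top X)) (BidConMod48.homConstEquiv _ (𝟙 (EtModW.constMod Λ X Λ))) := fun k => by
        rw [← homConstEquiv_comp, Category.id_comp]
      change BidConMod48.homConstEquiv F (f + g) = BidConMod48.homConstEquiv F f + BidConMod48.homConstEquiv F g
      rw [h, h f, h g]
      rfl }

/-- The constant sheaf is projective if global sections are exact. -/
theorem projective_of_surj (h : ∀ {F G : EtModW.Mod Λ X} (φ : F ⟶ G) [Epi φ],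
    Function.Surjective (φ.hom.app (op (EtCoh.top X)))) : Projective (EtModW.constMod Λ X Λ) where
  factors {E F} f e _ := by
    obtain ⟨t, ht⟩ := h e (BidConMod48.homConstEquiv _ f)
    refine ⟨(BidConMod48.homConstEquiv E).symm t, (BidConMod48.homConstEquiv F).injective ?_⟩
    rw [homConstEquiv_comp, Equiv.apply_symm_apply]
    exact ht

end Const

variable (A : Type u) [CommRing A] [HenselianLocalRing A] [IsSepClosed (IsLocalRing.ResidueField A)]

/-- The closed point. -/
noncomputable abbrev ip : Spec (CommRingCat.of (IsLocalRing.ResidueField A)) ⟶ Spec (CommRingCat.of A) :=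
  Spec.map (CommRingCat.ofHom (IsLocalRing.residue A))

theorem ip_default : ip A default = IsLocalRing.closedPoint A := by
  have : ∀ y : PrimeSpectrum (IsLocalRing.ResidueField A),
      IsLocalRing.closedPoint A = PrimeSpectrum.comap (IsLocalRing.residue A) y := by
    intro y
    have h3 : y.asIdeal = ⊥ := y.asIdeal.eq_bot_of_prime
    apply PrimeSpectrum.ext
    rw [PrimeSpectrum.comap_asIdeal, h3]
    exact (IsLocalRing.ker_residue (R := A)).symm
  exact (this (show PrimeSpectrum (IsLocalRing.ResidueField A) from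
    (default : ↥(Spec (CommRingCat.of (IsLocalRing.ResidueField A)))))).symm

variable (Λ : Type (u + 1)) [CommRing Λ]

/-- `ip_* Λ`. -/
noncomputable abbrev PP : EtModW.Mod Λ (Spec (CommRingCat.of A)) :=
  (EtModW.push Λ (ip A)).obj (EtModW.constMod Λ _ Λ)

variable {Λ}

/-- Global sections are exact. -/
theorem surj_top {F G : EtModW.Mod Λ (Spec (CommRingCat.of A))} (φ : F ⟶ G) [Epi φ] :
    Function.Surjective (φ.hom.app (op (EtCoh.top (Spec (CommRingCat.of A))))) := by
  intro s
  have h1 : Epi ((ab Λ _).map φ) := inferInstance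
  obtain ⟨V, g, v, hv, t, ht⟩ := (epi_iff_locIm ((ab Λ _).map φ)).1 h1 (EtCoh.top _)
    (show EtCoh.sect ((ab Λ _).obj G) (EtCoh.top _) from s)
    (show (EtCoh.top (Spec (CommRingCat.of A))).left from IsLocalRing.closedPoint A)
  have h2 : V.hom v = IsLocalRing.closedPoint A := by
    have h3 := Etcore.Cover.hom_apply g v
    rw [← h3, hv]
    rfl
  obtain ⟨c⟩ := EtpbcB.StrictLocBC.exists_section V v h2
  have h4 : c ≫ g = 𝟙 _ := Etbase.StrictHensPoint.hom_top_unique _ _
  refine ⟨F.obj.map c.op t, ?_⟩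
  have h5 : φ.hom.app (op (EtCoh.top _)) (F.obj.map c.op t) = G.obj.map c.op (φ.hom.app (op V) t) :=
    congrArg (fun k => k.hom t) (φ.hom.naturality c.op)
  rw [h5]
  have h6 : φ.hom.app (op V) t = G.obj.map g.op s := ht
  rw [h6]
  have h7 : G.obj.map c.op (G.obj.map g.op s) = G.obj.map (g.op ≫ c.op) s :=
    congrArg (fun k => k.hom s) (G.obj.map_comp g.op c.op).symm
  rw [h7, ← op_comp, h4]
  exact congrArg (fun k => k.hom s) (G.obj.map_id _)

instance projective_constMod : Projective (EtModW.constMod Λ (Spec (CommRingCat.of A)) Λ) :=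
  projective_of_surj fun φ _ => surj_top A φ

instance injective_PP [Injective (ModuleCat.of Λ Λ)] : Injective (PP A Λ) :=
  LFinT.push_injective Λ (ip A) _ (ModPoint.injective_constMod Λ _)

/-- Global sections and the inverse image to the closed point. -/
theorem nonempty_sect (F : EtModW.Mod Λ (Spec (CommRingCat.of A))) :
    Nonempty (EtModW.sect Λ F (EtCoh.top _) ≃+
      EtModW.sect Λ ((EtModW.pull Λ (ip A)).obj F) (EtCoh.top _)) := by
  have hU := EtpbcB.StrictLocStar.UB_closed (ip A) (ip_default A) ((ab Λ _).obj F)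
  let e1 : EtCoh.sect ((ab Λ _).obj F) (EtCoh.top _) ≃+
      EtCoh.sect ((EtCoh.pull (ip A)).obj ((ab Λ _).obj F)) ((EtCoh.bc (ip A)).obj (EtCoh.top _)) :=
    AddEquiv.ofBijective (((EtCoh.pullPushAdj (ip A)).unit.app ((ab Λ _).obj F)).hom.app (op (EtCoh.top _))).hom hU
  let G := (EtCoh.pull (ip A)).obj ((ab Λ _).obj F)
  let e2 := (G.obj.mapIso (EtpbcB.SepClosedPoint.bcTop (ip A)).symm.op).addCommGroupIsoToAddEquiv
  let e3 : (ab Λ _).obj ((EtModW.pull Λ (ip A)).obj F) ≅ G := (pullIso Λ (ip A)).app F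
  let e4 := (((sheafToPresheaf _ _ ⋙ (evaluation _ _).obj (op (EtCoh.top _))).mapIso e3)).addCommGroupIsoToAddEquiv
  exact ⟨e1.trans (e2.trans e4.symm)⟩

/-- Additive maps between `ℤ/n`-modules are linear. -/
noncomputable def homAdd (n : ℕ) (M : Type (u + 1)) [AddCommGroup M] [Module (ULift.{u + 1} (ZMod n)) M] :
    (ModuleCat.of (ULift.{u + 1} (ZMod n)) M ⟶ ModuleCat.of (ULift.{u + 1} (ZMod n)) (ULift.{u + 1} (ZMod n))) ≃+
      (M →+ ZMod n) where
  toFun f := (AddEquiv.ulift.toAddMonoidHom).comp f.hom.toAddMonoidHom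
  invFun g := ModuleCat.ofHom
    { toFun := fun x => ULift.up (g x)
      map_add' := fun x y => by
        apply ULift.down_injective
        exact map_add g x y
      map_smul' := fun r x => by
        obtain ⟨k, hk⟩ := ZMod.intCast_surjective r.down
        obtain rfl : ((k : ℤ) : ULift.{u + 1} (ZMod n)) = r := ULift.down_injective hk
        apply ULift.down_injective
        change g (((k : ℤ) : ULift.{u + 1} (ZMod n)) • x) = ((k : ℤ) : ZMod n) * g x
        rw [Int.cast_smul_eq_zsmul, map_zsmul, zsmul_eq_mul] }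
  left_inv f := by
    ext x
    rfl
  right_inv g := by
    ext x
    rfl
  map_add' f g := by
    ext x
    rfl

/-- `Hom(F, ip_* Λ) ≃+ (Hom(Λ, F) →+ ℤ/n)`. -/
theorem nonempty_homPP (n : ℕ) (F : EtModW.Mod (ULift.{u + 1} (ZMod n)) (Spec (CommRingCat.of A))) :
    Nonempty ((F ⟶ PP A (ULift.{u + 1} (ZMod n))) ≃+
      ((EtModW.constMod (ULift.{u + 1} (ZMod n)) (Spec (CommRingCat.of A)) (ULift.{u + 1} (ZMod n)) ⟶ F) →+ ZMod n)) := by
  let Λ := ULift.{u + 1} (ZMod n)
  let H := (EtModW.pull Λ (ip A)).obj F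
  have h0 : (EtModW.pull Λ (ip A)).Additive := Etrest.ModCons.additive_pull _
  -- adjunction
  let e1 : (H ⟶ EtModW.constMod Λ _ Λ) ≃+ (F ⟶ PP A Λ) :=
    { (EtDl.pullPushModAdj Λ (ip A)).homEquiv F (EtModW.constMod Λ _ Λ) with
      map_add' := fun f g => by
        change (EtDl.pullPushModAdj Λ (ip A)).homEquiv F (EtModW.constMod Λ _ Λ) (f + g) =
          (EtDl.pullPushModAdj Λ (ip A)).homEquiv F (EtModW.constMod Λ _ Λ) f +
            (EtDl.pullPushModAdj Λ (ip A)).homEquiv F (EtModW.constMod Λ _ Λ) g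
        rw [Adjunction.homEquiv_unit, Adjunction.homEquiv_unit, Adjunction.homEquiv_unit, Functor.map_add,
          Preadditive.comp_add] }
  -- global sections
  let Γκ := ModPoint.Γ Λ (Spec (CommRingCat.of (IsLocalRing.ResidueField A)))
  have hΓ : Γκ.Additive := ModPoint.additive_Γ _
  let e2 : (H ⟶ EtModW.constMod Λ _ Λ) ≃+ (Γκ.obj H ⟶ Γκ.obj (EtModW.constMod Λ _ Λ)) :=
    AddEquiv.ofBijective Γκ.mapAddHom ⟨Γκ.map_injective, Γκ.map_surjective⟩
  let e3 : ModuleCat.of Λ Λ ≅ Γκ.obj (EtModW.constMod Λ _ Λ) :=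
    asIso ((ModPoint.constAdj Λ (Spec (CommRingCat.of (IsLocalRing.ResidueField A)))).unit.app (ModuleCat.of Λ Λ))
  let e4 : (Γκ.obj H ⟶ Γκ.obj (EtModW.constMod Λ _ Λ)) ≃+ (Γκ.obj H ⟶ ModuleCat.of Λ Λ) :=
    homAddCongr (Iso.refl _) e3.symm
  let e5 := homAdd n (Γκ.obj H : Type (u + 1))
  obtain ⟨e6⟩ := nonempty_sect A F
  let e7 := (homConstAddEquiv F).trans e6
  exact ⟨e1.symm.trans (e2.trans (e4.trans (e5.trans (AddEquiv.addMonoidHomCongrLeft e7.symm))))⟩

end Groth.Agent.EtDual.K336.StrictS
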