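import Groth.Agent.EtDual.K336.DPAbs
import Groth.Agent.EtDual.K336.SmCmp
import Groth.Agent.EtDual.K336.BidStep
import Groth.Agent.EtDual.K336.StrictS

/-!
# Duals of sheaves, over a general scheme

Statements over a scheme `X` and coefficients `Λ` which are used for `X = Spec A`, `A` strictly local, and `Λ = ℤ/n`:
they are proved for general `X`, `Λ` and general complexes, where type checking is fast.
-/

set_option autoImplicit false
set_option linter.unusedSectionVars false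
universe u

open CategoryTheory CategoryTheory.Limits AlgebraicGeometry Opposite

attribute [local instance 5000] CategoryTheory.Abelian.toPreadditive
  CategoryTheory.Preadditive.preadditiveHasZeroMorphisms

namespace Groth.Agent.EtDual.K336.GenD

attribute [local instance] HasDerivedCategory.standard
open scoped Groth.Agent.Sga4h.ModInst
open Groth.Agent.Sga4h Groth.Agent.Sga4h.Refl DerivedCategory
open Groth.Agent.Sga4h.BidIndD48 Groth.Agent.Sga4h.BidIndLoc48 Groth.Agent.Sga4h.BidLoc48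
open Groth.Agent.Sga4h.BidRed538Main Groth.Agent.EtDual.K336.StrictS Groth.Agent.EtDual.K336.StrictAbs

/-- A zero complex is zero in the derived category. -/
theorem isZero_Q_of_X {C : Type*} [Category* C] [Abelian C] [HasDerivedCategory C] (K : CochainComplex C ℤ)
    (h : IsZero K) : IsZero (Q.obj K) := by
  have : Q (C := C) |>.PreservesZeroMorphisms := inferInstance
  exact (Q (C := C)).map_isZero h

/-- An additive functor and single complexes. -/
theorem nonempty_map_single {C D : Type*} [Category* C] [Abelian C] [Category* D] [Abelian D]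
    (F : C ⥤ D) [F.Additive] (P : C) :
    Nonempty ((F.mapHomologicalComplex (ComplexShape.up ℤ)).obj ((CochainComplex.singleFunctor C 0).obj P) ≅
      (CochainComplex.singleFunctor D 0).obj (F.obj P)) :=
  ⟨(HomologicalComplex.singleMapHomologicalComplex F (ComplexShape.up ℤ) 0).app P⟩

/-- The single complex of a zero object is zero. -/
theorem isZero_map_single {C D : Type*} [Category* C] [Abelian C] [Category* D] [Abelian D]
    (F : C ⥤ D) [F.Additive] (P : C) (h : IsZero (F.obj P)) :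
    IsZero ((F.mapHomologicalComplex (ComplexShape.up ℤ)).obj ((CochainComplex.singleFunctor C 0).obj P)) := by
  obtain ⟨s⟩ := nonempty_map_single F P
  exact (Functor.map_isZero (CochainComplex.singleFunctor D 0) h).of_iso s

/-- `Q (P[0]) = P[0]`. -/
theorem nonempty_single {C : Type*} [Category* C] [Abelian C] [HasDerivedCategory C] (P : C) :
    Nonempty ((singleFunctor C 0).obj P ≅ Q.obj ((CochainComplex.singleFunctor C 0).obj P)) :=
  ⟨(singleFunctorIsoCompQ C 0).app P⟩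

variable {Λ : Type (u + 1)} [CommRing Λ] {X Y : Scheme.{u}}

theorem isDbc_single [IsNoetherianRing Λ] (P : EtModW.Mod Λ X) (hP : EtModW.IsConstructible Λ P) :
    EtModD.IsDbc (Q.obj ((CochainComplex.singleFunctor (EtModW.Mod Λ X) 0).obj P)) :=
  (Dbc323.isDbc_Q_single_iff _ 0).2 hP

/-- The inverse image of the cohomology sheaves of a complex `K` with `g⁻¹ K = 0`. -/
theorem isZero_pull_HD (g : Y ⟶ X) (K : CochainComplex (EtModW.Mod Λ X) ℤ) (K' : CochainComplex (EtModW.Mod Λ Y) ℤ)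
    (e : Nonempty (Q.obj ((R g).obj K) ≅ Q.obj K')) (h : IsZero (Q.obj K')) (q : ℤ) :
    IsZero ((EtModW.pull Λ g).obj (EtModD.HD (Q.obj K) q)) := by
  obtain ⟨e⟩ := e
  have h3 : IsZero (EtModD.HD (Q.obj ((R g).obj K)) q) := Functor.map_isZero (homologyFunctor _ q) (h.of_iso e)
  exact h3.of_iso (pullHDIso g _ q).symm

/-- `Γ(Y, i⁻¹ H^q(D)) ≃+ Hom(Λ, D[q])` if `Γ(X, F) = Γ(Y, i⁻¹ F)` and the constant sheaf is projective. -/
theorem nonempty_sect_HD (i : Y ⟶ X) [Projective (EtModW.constMod Λ X Λ)]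
    (hsect : ∀ F : EtModW.Mod Λ X, Nonempty (EtModW.sect Λ F (EtCoh.top _) ≃+
      EtModW.sect Λ ((EtModW.pull Λ i).obj F) (EtCoh.top _))) (D : EtModD.D Λ X) (q : ℤ) :
    Nonempty (EtModW.sect Λ ((EtModW.pull Λ i).obj (EtModD.HD D q)) (EtCoh.top _) ≃+
      ((singleFunctor _ 0).obj (EtModW.constMod Λ X Λ) ⟶ D⟦q⟧)) := by
  obtain ⟨e1⟩ := hsect (EtModD.HD D q)
  let e2 := homConstAddEquiv (EtModD.HD D q)
  obtain ⟨e3⟩ := nonempty_homProj (EtModW.constMod Λ X Λ) D q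
  exact ⟨e1.symm.trans (e2.symm.trans e3.symm)⟩

/-- **The dual of `P`** if `Hom(P, Λ[q])` is `0` for `q ≠ m` and `ℤ/n` for `q = m`. -/
theorem nonempty_D {n : ℕ} (i : Y ⟶ X) [Projective (EtModW.constMod Λ X Λ)]
    (hsect : ∀ F : EtModW.Mod Λ X, Nonempty (EtModW.sect Λ F (EtCoh.top _) ≃+
      EtModW.sect Λ ((EtModW.pull Λ i).obj F) (EtCoh.top _)))
    (hY0 : ∀ M : EtModW.Mod Λ Y, Subsingleton (EtModW.sect Λ M (EtCoh.top _)) → IsZero M)
    (hY1 : ∀ M : EtModW.Mod Λ Y, Nonempty (EtModW.sect Λ M (EtCoh.top _) ≃+ ZMod n) →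
      Nonempty (M ≅ EtModW.constMod Λ Y Λ))
    (P : EtModW.Mod Λ X) (hP : Nonempty ((EtModW.push Λ i).obj (EtModW.constMod Λ Y Λ) ≅ P))
    (D : EtModD.D Λ X)
    (hH : ∀ q : ℤ, Nonempty (EtModD.HD D q ≅ (EtModW.push Λ i).obj ((EtModW.pull Λ i).obj (EtModD.HD D q))))
    (hU : ∀ q : ℤ, Nonempty (((singleFunctor _ 0).obj (EtModW.constMod Λ X Λ) ⟶ D⟦q⟧) ≃+
      (Q.obj ((CochainComplex.singleFunctor _ 0).obj P) ⟶ ((singleFunctor _ 0).obj (EtModW.constMod Λ X Λ))⟦q⟧)))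
    (m : ℤ)
    (h0 : ∀ q : ℤ, q ≠ m → Subsingleton ((singleFunctor _ 0).obj P ⟶
      ((singleFunctor _ 0).obj (EtModW.constMod Λ X Λ))⟦q⟧))
    (h1 : Nonempty (((singleFunctor _ 0).obj P ⟶
      ((singleFunctor _ 0).obj (EtModW.constMod Λ X Λ))⟦m⟧) ≃+ ZMod n)) :
    Nonempty (D ≅ (Q.obj ((CochainComplex.singleFunctor _ 0).obj P))⟦-m⟧) := by
  obtain ⟨s⟩ := nonempty_single P
  have h2 : ∀ q : ℤ, q ≠ m → IsZero (EtModD.HD D q) := by
    intro q hq
    obtain ⟨e1⟩ := hH q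
    obtain ⟨e2⟩ := nonempty_sect_HD i hsect D q
    obtain ⟨e4⟩ := hU q
    have := h0 q hq
    have h3 := hY0 _ (e2.trans (e4.trans (homAddCongr s.symm (Iso.refl _)))).toEquiv.subsingleton
    exact (Functor.map_isZero (EtModW.push Λ i) h3).of_iso e1
  have h3 : Nonempty (EtModD.HD D m ≅ P) := by
    obtain ⟨e1⟩ := hH m
    obtain ⟨e2⟩ := nonempty_sect_HD i hsect D m
    obtain ⟨e3⟩ := h1
    obtain ⟨e4'⟩ := hU m
    obtain ⟨e4⟩ := hY1 _ ⟨(e2.trans (e4'.trans (homAddCongr s.symm (Iso.refl _)))).trans e3⟩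
    obtain ⟨e5⟩ := hP
    exact ⟨e1 ≪≫ (EtModW.push Λ i).mapIso e4 ≪≫ e5⟩
  obtain ⟨e⟩ := DPAbs.exists_iso_shift D P m h2 h3
  exact ⟨e ≪≫ (shiftFunctor _ (-m)).mapIso s⟩

/-- `Hom(Λ, (D M)[i]) ≃+ Hom(M, Λ[i])`. -/
theorem nonempty_homUnitAdd (K : CochainComplex (EtModW.Mod Λ X) ℤ) (i : ℤ) :
    Nonempty (((singleFunctor _ 0).obj (EtModW.constMod Λ X Λ) ⟶ (Q.obj ((stdDual Λ X).D K))⟦i⟧) ≃+
      (Q.obj K ⟶ ((singleFunctor _ 0).obj (EtModW.constMod Λ X Λ))⟦i⟧)) :=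
  DPAbs.nonempty_homUnitAdd (stdDual Λ X) (TensorUnit.tensorUnitRight Λ X) (stdι _ _) (quasiIso_stdι _ _) K i

/-- The inverse image of the cohomology sheaves of `D P` vanishes if the inverse image of `P` does. -/
theorem isZero_pull_HD_D [IsNoetherianRing Λ] {n : ℕ} (hΛ : (n : Λ) = 0) [IsNoetherian X] {g : Y ⟶ X}
    (hg : SmCmp.GoodT g n) (P : EtModW.Mod Λ X) (hP : EtModW.IsConstructible Λ P)
    (h0 : IsZero ((EtModW.pull Λ g).obj P)) (q : ℤ) : IsZero ((EtModW.pull Λ g).obj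
      (EtModD.HD (Q.obj ((stdDual Λ X).D ((CochainComplex.singleFunctor _ 0).obj P))) q)) :=
  isZero_pull_HD g _ _ (SmCmp.nonempty_iso hΛ hg _ (isDbc_single P hP))
    (DPAbs.isZero_Q_D (stdDual Λ Y) (isZero_Q_of_X _ (isZero_map_single _ P h0))) q

/-- An exact functor and `K ≅ M[0][c]`. -/
theorem nonempty_map_shift {C D : Type*} [Category* C] [Abelian C] [Category* D] [Abelian D]
    [HasDerivedCategory.{u+2} C] [HasDerivedCategory.{u+2} D] (F : C ⥤ D) [F.Additive] [PreservesFiniteLimits F]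
    [PreservesFiniteColimits F] {K : CochainComplex C ℤ} {M : C} {c : ℤ}
    (e : Nonempty (Q.obj K ≅ (Q.obj ((CochainComplex.singleFunctor C 0).obj M))⟦c⟧)) :
    Nonempty (Q.obj ((F.mapHomologicalComplex (ComplexShape.up ℤ)).obj K) ≅
      (Q.obj ((CochainComplex.singleFunctor D 0).obj (F.obj M)))⟦c⟧) := by
  obtain ⟨e⟩ := e
  obtain ⟨s⟩ := nonempty_map_single F M
  let G := F.mapDerivedCategory
  let i := F.mapDerivedCategoryFactors
  exact ⟨(i.app K).symm ≪≫ G.mapIso e ≪≫ (G.commShiftIso c).app _ ≪≫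
    (shiftFunctor _ c).mapIso (i.app _ ≪≫ Q.mapIso s)⟩

/-- The dual of isomorphic complexes. -/
theorem nonempty_D_congr {C : Type*} [Category* C] [Abelian C] [HasDerivedCategory.{u+2} C]
    {T : C ⥤ C ⥤ C} [T.Additive] [∀ X, (T.obj X).Additive]
    [∀ K₁ K₂ : CochainComplex C ℤ, CochainComplex.HasMapBifunctor K₁ K₂ T]
    [∀ E : CochainComplex C ℤ, (T.map₂CochainComplex.flip.obj E).IsLeftAdjoint] (A : DualData T)
    {K L : CochainComplex C ℤ} (e : Nonempty (K ≅ L)) : Nonempty (Q.obj (A.D K) ≅ Q.obj (A.D L)) := by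
  obtain ⟨e⟩ := e
  exact ⟨Q.mapIso (A.F.mapIso e.op).symm⟩

/-- Isomorphisms in the derived category compose. -/
theorem nonempty_trans {C : Type*} [Category* C] {A B D E : C} (h1 : Nonempty (A ≅ B)) (h2 : Nonempty (B ≅ D))
    (h3 : Nonempty (D ≅ E)) : Nonempty (A ≅ E) := by
  obtain ⟨e1⟩ := h1
  obtain ⟨e2⟩ := h2
  obtain ⟨e3⟩ := h3
  exact ⟨e1 ≪≫ e2 ≪≫ e3⟩

theorem nonempty_R_single (g : Y ⟶ X) (P : EtModW.Mod Λ X) :
    Nonempty ((R g).obj ((CochainComplex.singleFunctor (EtModW.Mod Λ X) 0).obj P) ≅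
      (CochainComplex.singleFunctor (EtModW.Mod Λ Y) 0).obj ((EtModW.pull Λ g).obj P)) :=
  nonempty_map_single (EtModW.pull Λ g) P

/-- **The dual of `g⁻¹ P`** from the dual of `P`. -/
theorem nonempty_D_pull [IsNoetherianRing Λ] {n : ℕ} (hΛ : (n : Λ) = 0) [IsNoetherian X] {g : Y ⟶ X}
    (hg : SmCmp.GoodT g n) (P : EtModW.Mod Λ X) (hP : EtModW.IsConstructible Λ P) {c : ℤ}
    (h : Nonempty (Q.obj ((stdDual Λ X).D ((CochainComplex.singleFunctor _ 0).obj P)) ≅
      (Q.obj ((CochainComplex.singleFunctor _ 0).obj P))⟦c⟧)) (Z : EtModW.Mod Λ Y) (hZ : (EtModW.pull Λ g).obj P = Z) :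
    Nonempty (Q.obj ((stdDual Λ Y).D ((CochainComplex.singleFunctor _ 0).obj Z)) ≅
      (Q.obj ((CochainComplex.singleFunctor _ 0).obj Z))⟦c⟧) := by
  subst hZ
  obtain ⟨e1⟩ := SmCmp.nonempty_iso hΛ hg _ (isDbc_single P hP)
  have e2 := nonempty_map_shift (EtModW.pull Λ g) h
  obtain ⟨e3⟩ := nonempty_D_congr (stdDual Λ Y) (nonempty_R_single g P)
  exact nonempty_trans ⟨e3.symm⟩ ⟨e1.symm⟩ e2

end Groth.Agent.EtDual.K336.GenD
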