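import Groth.Agent.EtDual.K336.BidStep
import Groth.Agent.EtDual.K336.StrictS
import Groth.Agent.EtDual.K336.GenD
import Groth.Agent.Sga5.H856.FinAb

/-!
# Duality on a strictly local base

`S = Spec A`, `A` strictly henselian local with biduality (`Bid (stdDual Λ S)`) and `D (ip_* Λ) ≅ (ip_* Λ)[-c]`
(`BaseData`), `Λ = ℤ/n`: the cardinalities of `Hom(N, ip_* Λ[r])` and of `Hom(N, Λ[r])`.
-/

set_option autoImplicit false
set_option linter.unusedSectionVars false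
universe u

open CategoryTheory CategoryTheory.Limits AlgebraicGeometry Opposite

attribute [local instance 5000] CategoryTheory.Abelian.toPreadditive
  CategoryTheory.Preadditive.preadditiveHasZeroMorphisms

namespace Groth.Agent.EtDual.K336.GlobS

attribute [local instance] HasDerivedCategory.standard
attribute [-instance] ULift.ring
open scoped Groth.Agent.Sga4h.ModInst
open Groth.Agent.Sga4h Groth.Agent.Sga4h.Refl DerivedCategory
open Groth.Agent.Sga4h.BidIndD48 Groth.Agent.Sga4h.BidIndLoc48 Groth.Agent.Sga4h.BidLoc48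
open Groth.Agent.Sga4h.BidRed538Main Groth.Agent.EtDual.K336.StrictS Groth.Agent.EtDual.K336.StrictAbs

/-- The coefficients `ℤ/n`. -/
abbrev Lam (n : ℕ) : Type (u + 1) := ULift.{u + 1} (ZMod n)

theorem lam_zero (n : ℕ) : ((n : ℕ) : Lam.{u} n) = 0 := by
  apply ULift.down_injective
  exact ZMod.natCast_self n

/-- The constant sheaf `Λ` in degree zero, in the derived category. -/
noncomputable abbrev L0 (Λ : Type (u + 1)) [CommRing Λ] (X : Scheme.{u}) : EtModD.D Λ X :=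
  (singleFunctor _ 0).obj (EtModW.constMod Λ X Λ)

/-- Relative duality for `f` with shift `e`. -/
def Push (Λ : Type (u + 1)) [CommRing Λ] {X S : Scheme.{u}} (f : X ⟶ S) (e : ℤ) : Prop :=
  ∀ M : EtModD.D Λ X, EtModD.IsDbc M → ∃ N : EtModD.D Λ S, EtModD.IsDbc N ∧
    (∀ (G : EtModW.Mod Λ S) (r : ℤ), Nonempty ((N ⟶ ((singleFunctor _ 0).obj G)⟦r⟧) ≃
      (M ⟶ ((singleFunctor _ 0).obj ((EtModW.pull Λ f).obj G))⟦r + e⟧))) ∧
    (∀ (G : EtModW.Mod Λ S) (r : ℤ), Nonempty (((singleFunctor _ 0).obj G ⟶ N⟦r⟧) ≃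
      ((singleFunctor _ 0).obj ((EtModW.pull Λ f).obj G) ⟶ M⟦r⟧)))

section Card

/-- The cardinality of the dual of a finite group killed by `n`. -/
theorem card_dual (n : ℕ) [NeZero n] (G : Type (u + 1)) [AddCommGroup G] [Finite G] (h : ∀ g : G, n • g = 0) :
    Nat.card (G →+ ZMod n) = Nat.card G := by
  obtain ⟨e⟩ := Sga5.H856.FinAb.nonempty_hom_equiv n G h
  exact Nat.card_congr e.toEquiv

/-- A finite group killed by `n` is trivial if its dual is. -/
theorem subsingleton_of_dual (n : ℕ) [NeZero n] (G : Type (u + 1)) [AddCommGroup G] (h : ∀ g : G, n • g = 0)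
    [Subsingleton (G →+ ZMod n)] : Subsingleton G := by
  refine ⟨fun a b => ?_⟩
  by_contra hab
  obtain ⟨β, hβ⟩ := BidGlobTri.exists_hom_ne_zero (NeZero.ne n) h (sub_ne_zero.2 hab)
  exact hβ (by rw [Subsingleton.elim β 0]; rfl)

end Card

section Tors

variable {n : ℕ}

theorem nsmul_hom {X : Scheme.{u}} (F G : EtModW.Mod (Lam.{u} n) X) (f : F ⟶ G) : n • f = 0 := by
  ext U s
  change n • (f.hom.app U s) = 0
  have h : ∀ (M : Type (u + 1)) [AddCommGroup M] [Module (Lam.{u} n) M] (x : M), n • x = 0 := fun M _ _ x => by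
    rw [← Nat.cast_smul_eq_nsmul (Lam.{u} n), lam_zero, zero_smul]
  exact h _ _

end Tors

section Gen

variable {Λ : Type (u + 1)} [CommRing Λ] {X : Scheme.{u}}

/-- Finiteness of `Hom(N, Λ[r])`, over a general scheme. -/
theorem finite_homL0_gen (bid : Bid (stdDual Λ X))
    (hfin : ∀ N : EtModD.D Λ X, EtModD.IsDbc N → ∀ i : ℤ, Finite (L0 Λ X ⟶ N⟦i⟧))
    (N : EtModD.D Λ X) (hN : EtModD.IsDbc N) (r : ℤ) : Finite (N ⟶ (L0 Λ X)⟦r⟧) := by
  let K := Q.objPreimage N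
  let e : Q.obj K ≅ N := Q.objObjPreimageIso N
  have hK : EtModD.IsDbc (Q.obj K) := isDbc_of_iso e.symm hN
  obtain ⟨e1⟩ := GenD.nonempty_homUnitAdd K r
  have := hfin _ (bid.dbc K hK) r
  exact Finite.of_equiv _ (e1.toEquiv.trans (Iso.homCongr e (Iso.refl _)))

/-- The first duality on the base, over a general scheme. -/
theorem card_L0_gen {n : ℕ} [NeZero n] {P : EtModW.Mod Λ X} [Projective (EtModW.constMod Λ X Λ)] [Injective P] {c : ℤ}
    (hP : ∀ F : EtModW.Mod Λ X, Nonempty ((F ⟶ P) ≃+ ((EtModW.constMod Λ X Λ ⟶ F) →+ ZMod n)))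
    (hc : Nonempty (Q.obj ((stdDual Λ X).D ((CochainComplex.singleFunctor _ 0).obj P)) ≅
      (Q.obj ((CochainComplex.singleFunctor _ 0).obj P))⟦-c⟧))
    (bid : Bid (stdDual Λ X))
    (hfin : ∀ N : EtModD.D Λ X, EtModD.IsDbc N → ∀ i : ℤ, Finite (L0 Λ X ⟶ N⟦i⟧))
    (htors : ∀ (N : EtModD.D Λ X) (i : ℤ) (g : L0 Λ X ⟶ N⟦i⟧), n • g = 0)
    (N : EtModD.D Λ X) (hN : EtModD.IsDbc N) (r s : ℤ) (hrs : c - s = r) :
    Nat.card (N ⟶ (L0 Λ X)⟦r⟧) = Nat.card ((singleFunctor _ 0).obj P ⟶ N⟦s⟧) := by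
  let K := Q.objPreimage N
  let e : Q.obj K ≅ N := Q.objObjPreimageIso N
  have hK : EtModD.IsDbc (Q.obj K) := isDbc_of_iso e.symm hN
  obtain ⟨e1⟩ := GenD.nonempty_homUnitAdd K r
  obtain ⟨e2⟩ := local_dual (stdDual Λ X) hP hc K (bid.refl K hK) s
  subst hrs
  have h1 := hfin _ (bid.dbc K hK) (c - s)
  have a1 := Nat.card_congr (Iso.homCongr e (Iso.refl ((L0 Λ X)⟦c - s⟧)))
  have a2 := Nat.card_congr e1.toEquiv
  have a3 := Nat.card_congr e2.toEquiv
  have a4 := card_dual n _ (htors (Q.obj ((stdDual Λ X).D K)) (c - s))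
  have a5 := Nat.card_congr (Iso.homCongr (Iso.refl ((singleFunctor _ 0).obj P)) ((shiftFunctor _ s).mapIso e))
  exact (a1.symm.trans a2.symm).trans ((a3.trans a4).symm.trans a5)

end Gen

section Base

variable {A : Type u} [CommRing A] [HenselianLocalRing A] [IsSepClosed (IsLocalRing.ResidueField A)]
  {n : ℕ} [NeZero n]

/-- Global sections of constructible sheaves on a strictly local scheme are finite. -/
theorem finite_hom_const (F : EtModW.Mod (Lam.{u} n) (Spec (CommRingCat.of A)))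
    (hF : EtModW.IsConstructible (Lam.{u} n) F) : Finite (EtModW.constMod (Lam.{u} n) _ (Lam.{u} n) ⟶ F) := by
  have h1 := Etcore.LCrit.isConstructible_pull (ip A) F hF
  have h2 := ModPoint.finite_Γ_of_isConstructible _ _ h1
  have h3' : Finite ((ModPoint.Γ (Lam.{u} n) _).obj ((EtModW.pull (Lam.{u} n) (ip A)).obj F)) :=
    Module.finite_of_finite (Lam.{u} n)
  have h3 : Finite (EtModW.sect (Lam.{u} n) ((EtModW.pull (Lam.{u} n) (ip A)).obj F) (EtCoh.top _)) := h3'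
  obtain ⟨e⟩ := nonempty_sect A F
  exact Finite.of_equiv _ ((homConstAddEquiv F).trans e).symm.toEquiv

/-- `Hom(Λ, N[i])` is finite for `N ∈ D^b_c`. -/
theorem finite_L0 (N : EtModD.D (Lam.{u} n) (Spec (CommRingCat.of A))) (hN : EtModD.IsDbc N) (i : ℤ) :
    Finite (L0 (Lam.{u} n) _ ⟶ N⟦i⟧) := by
  obtain ⟨e⟩ := nonempty_homProj (EtModW.constMod (Lam.{u} n) (Spec (CommRingCat.of A)) (Lam.{u} n)) N i
  have := finite_hom_const _ (hN.2 i)
  exact Finite.of_equiv _ e.symm.toEquiv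

theorem nsmul_L0 (N : EtModD.D (Lam.{u} n) (Spec (CommRingCat.of A))) (i : ℤ) (g : L0 (Lam.{u} n) _ ⟶ N⟦i⟧) :
    n • g = 0 := by
  obtain ⟨e⟩ := nonempty_homProj (EtModW.constMod (Lam.{u} n) (Spec (CommRingCat.of A)) (Lam.{u} n)) N i
  apply e.injective
  rw [map_nsmul, map_zero]
  exact nsmul_hom _ _ _

/-- The second duality on `S`. -/
theorem card_P (N : EtModD.D (Lam.{u} n) (Spec (CommRingCat.of A))) (hN : EtModD.IsDbc N) (r : ℤ) :
    Nat.card (N ⟶ ((singleFunctor _ 0).obj (PP A (Lam.{u} n)))⟦r⟧) = Nat.card (L0 (Lam.{u} n) _ ⟶ N⟦-r⟧) := by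
  have := ModPoint.injective_zmod.{u} n (NeZero.pos n)
  obtain ⟨e⟩ := homP (nonempty_homPP A n) N r
  have := finite_L0 N hN (-r)
  rw [Nat.card_congr e.toEquiv, card_dual n _ (nsmul_L0 N (-r))]

variable (A n) in
/-- The hypotheses on the base. -/
structure BaseData (c : ℤ) : Prop where
  bid : Bid (stdDual (Lam.{u} n) (Spec (CommRingCat.of A)))
  dP : Nonempty (Q.obj ((stdDual (Lam.{u} n) (Spec (CommRingCat.of A))).D
    ((CochainComplex.singleFunctor _ 0).obj (PP A (Lam.{u} n)))) ≅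
      (Q.obj ((CochainComplex.singleFunctor _ 0).obj (PP A (Lam.{u} n))))⟦-c⟧)

variable {c : ℤ} (B : BaseData A n c)

include B in
theorem finite_homL0 (N : EtModD.D (Lam.{u} n) (Spec (CommRingCat.of A))) (hN : EtModD.IsDbc N) (r : ℤ) :
    Finite (N ⟶ (L0 (Lam.{u} n) _)⟦r⟧) :=
  finite_homL0_gen (Λ := Lam.{u} n) B.bid finite_L0 N hN r

/-- `Hom(F, ip_* Λ) ≃+ (Hom(Λ, F) →+ ℤ/n)`. -/
theorem nonempty_homPP' (F : EtModW.Mod (Lam.{u} n) (Spec (CommRingCat.of A))) :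
    Nonempty ((F ⟶ PP A (Lam.{u} n)) ≃+
      ((EtModW.constMod (Lam.{u} n) (Spec (CommRingCat.of A)) (Lam.{u} n) ⟶ F) →+ ZMod n)) :=
  nonempty_homPP A n F

include B in
/-- The first duality on `S`. -/
theorem card_L0 (N : EtModD.D (Lam.{u} n) (Spec (CommRingCat.of A))) (hN : EtModD.IsDbc N) (r : ℤ) :
    Nat.card (N ⟶ (L0 (Lam.{u} n) _)⟦r⟧) =
      Nat.card ((singleFunctor _ 0).obj (PP A (Lam.{u} n)) ⟶ N⟦c - r⟧) := by
  have := ModPoint.injective_zmod.{u} n (NeZero.pos n)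
  exact card_L0_gen (Λ := Lam.{u} n) nonempty_homPP' B.dP B.bid finite_L0 nsmul_L0 N hN r (c - r) (sub_sub_cancel c r)

end Base

section ZZ

variable {A : Type u} [CommRing A] [HenselianLocalRing A] {n : ℕ} {X : Scheme.{u}} (f : X ⟶ Spec (CommRingCat.of A))

/-- `Z = f⁻¹ (ip_* Λ)`. -/
noncomputable abbrev ZZ : EtModW.Mod (Lam.{u} n) X := (EtModW.pull (Lam.{u} n) f).obj (PP A (Lam.{u} n))

end ZZ

end Groth.Agent.EtDual.K336.GlobS
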