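import Groth.Agent.EtDual.K336.GeoP1

/-!
# Iterated projective lines over a discrete valuation ring: a finite family of limits of étale schemes covering
all non-closed points
-/

set_option autoImplicit false

universe u

open CategoryTheory CategoryTheory.Limits AlgebraicGeometry IsLocalRing

namespace Groth.Agent.EtDual.K336.GeoFam

open Groth.Agent.Sga4h Groth.Agent.Sga4h.BidGeoIt Groth.Agent.Sga4h.BidGeoLim Groth.Agent.Dix.ProjProper
  Groth.Agent.EtDual.K336.GeoP1 Groth.Agent.Pi1A.FGLimit

section closed

variable {R : Type u} [CommRing R] [IsLocalRing R]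

/-- the residue field of a closed point over the closed point is finite over the base -/
theorem isFinite_of_closed {X : Scheme.{u}} (f : X ⟶ Spec (CommRingCat.of R))
    [LocallyOfFiniteType f] (x : X) (hx : IsClosed ({x} : Set X)) (hfx : f x = closedPoint R) :
    IsFinite (X.fromSpecResidueField x ≫ f) := by
  have h1 : IsClosedImmersion (X.fromSpecResidueField x) :=
    isClosed_singleton_iff_isClosedImmersion.1 hx
  let φ : CommRingCat.of R ⟶ X.residueField x := Spec.preimage (X.fromSpecResidueField x ≫ f)
  have hφ : Spec.map φ = X.fromSpecResidueField x ≫ f := Spec.map_preimage _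
  have h2 : LocallyOfFiniteType (Spec.map φ) := by
    rw [hφ]
    infer_instance
  have h3 : φ.hom.FiniteType := by
    rwa [HasRingHomProperty.Spec_iff (P := @LocallyOfFiniteType)] at h2
  have h4 : ∀ r ∈ maximalIdeal R, φ.hom r = 0 := by
    intro r hr
    let c : Spec (X.residueField x) := closedPoint (X.residueField x)
    have h5 : (Spec.map φ) c = closedPoint R := by
      rw [hφ, Scheme.Hom.comp_apply, Scheme.fromSpecResidueField_apply, hfx]
    have h6 : r ∈ ((Spec.map φ) c).asIdeal := by
      rw [h5]
      exact hr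
    have h7 : φ.hom r ∈ maximalIdeal (X.residueField x) := h6
    by_contra hne
    exact (mem_maximalIdeal _).1 h7 (isUnit_iff_ne_zero.2 hne)
  let ψ : ResidueField R →+* X.residueField x := Ideal.Quotient.lift (maximalIdeal R) φ.hom h4
  have h8 : ψ.comp (residue R) = φ.hom := by
    ext r
    rfl
  have h9 : ψ.FiniteType := by
    apply RingHom.FiniteType.of_comp_finiteType (f := residue R)
    rw [h8]
    exact h3
  have h10 : ψ.Finite := by
    let _ := ψ.toAlgebra
    have : Algebra.FiniteType (ResidueField R) (X.residueField x) := h9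
    have : Module.Finite (ResidueField R) (X.residueField x) :=
      finite_of_finite_type_of_isJacobsonRing (ResidueField R) (X.residueField x)
    exact this
  have h11 : φ.hom.Finite := by
    rw [← h8]
    exact h10.comp (RingHom.Finite.of_surjective _ IsLocalRing.residue_surjective)
  rw [← hφ, IsFinite.SpecMap_iff]
  exact h11

/-- a point of a fibre product whose projections are closed points is closed -/
theorem isClosed_singleton_of_isPullback {X T P B : Scheme.{u}} {a : X ⟶ T} {b : X ⟶ P}
    {t : T ⟶ B} {p : P ⟶ B} (h : IsPullback a b t p)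
    (x : X) (hy : IsClosed ({a x} : Set T)) (hz : IsClosed ({b x} : Set P))
    (hfin : IsFinite (P.fromSpecResidueField (b x) ≫ p)) :
    IsClosed ({x} : Set X) := by
  let i := P.fromSpecResidueField (b x)
  have hi : IsClosedImmersion i := isClosed_singleton_iff_isClosedImmersion.1 hz
  have hfin : IsFinite (i ≫ p) := hfin
  -- the closed subscheme `b⁻¹(z)`
  let C := pullback b i
  let c : C ⟶ X := pullback.fst b i
  have hc : IsClosedImmersion c := inferInstance
  have hC : IsPullback (c ≫ a) (pullback.snd b i) t (i ≫ p) :=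
    (IsPullback.of_hasPullback b i).paste_horiz h
  have hCfin : IsFinite (c ≫ a) :=
    MorphismProperty.of_isPullback (P := @IsFinite) hC.flip hfin
  obtain ⟨x', hx'⟩ : x ∈ Set.range c := by
    have h1 : Set.range c = b ⁻¹' Set.range i := Scheme.Pullback.range_fst b i
    rw [h1]
    exact ⟨IsLocalRing.closedPoint _, Scheme.fromSpecResidueField_apply _ _⟩
  have hd : _root_.IsDiscrete ((c ≫ a) ⁻¹' {a x}) := (c ≫ a).isDiscrete_preimage_singleton (a x)
  have hcl : IsClosed ((c ≫ a) ⁻¹' {a x}) := hy.preimage (c ≫ a).continuous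
  have hx'' : x' ∈ (c ≫ a) ⁻¹' {a x} := by
    change (c ≫ a) x' = a x
    rw [← hx']
    rfl
  have h3 : IsClosed ({x'} : Set C) := by
    have := hd.to_subtype
    have h5 : IsClosed ({⟨x', hx''⟩} : Set ↑((c ≫ a) ⁻¹' {a x})) := isClosed_discrete _
    have h6 := hcl.isClosedEmbedding_subtypeVal.isClosedMap _ h5
    rwa [Set.image_singleton] at h6
  have h4 := c.isClosedEmbedding.isClosedMap _ h3
  rw [Set.image_singleton, hx'] at h4
  exact h4

theorem isClosed_closedPoint : IsClosed ({closedPoint R} : Set (PrimeSpectrum R)) :=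
  (PrimeSpectrum.isClosed_singleton_iff_isMaximal _).2 (IsLocalRing.maximalIdeal.isMaximal R)

theorem over_eq {X Y Z W : Scheme.{u}} {f : X ⟶ Y} {g : Y ⟶ Z} {f' : X ⟶ W} {g' : W ⟶ Z} (h : f ≫ g = f' ≫ g')
    (x : X) : g (f x) = g' (f' x) := by
  rw [← Scheme.Hom.comp_apply, h, Scheme.Hom.comp_apply]

/-- points of the special fibre with closed coordinates are closed -/
theorem isClosed_of_forall_coord (d : ℕ) :
    ∀ x : It (Spec (CommRingCat.of R)) d, str (Spec (CommRingCat.of R)) d x = closedPoint R →
      (∀ c, IsCoord (Spec (CommRingCat.of R)) d c →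
        IsClosed ({c x} : Set (CohB1.ProjSpaceOver 1 (Spec (CommRingCat.of R))))) →
      IsClosed ({x} : Set (It (Spec (CommRingCat.of R)) d)) := by
  induction d with
  | zero =>
    intro x h0 _
    have h1 : x = closedPoint R := h0
    rw [h1]
    exact isClosed_closedPoint
  | succ d ih =>
    intro x h0 hx
    have h1 : str (Spec (CommRingCat.of R)) d
        (CohB1.ProjSpaceOver.toBase 1 (It (Spec (CommRingCat.of R)) d) x) = closedPoint R := h0
    refine isClosed_singleton_of_isPullback
      (isPullback_mapBase 1 (str (Spec (CommRingCat.of R)) d)).flip x ?_ ?_ ?_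
    · exact ih _ h1 (fun c hc => hx _ (IsCoord.pull d c hc))
    · exact hx _ (IsCoord.top d)
    · apply isFinite_of_closed (CohB1.ProjSpaceOver.toBase 1 (Spec (CommRingCat.of R)))
        (mapBase 1 (str (Spec (CommRingCat.of R)) d) x) (hx _ (IsCoord.top d))
      exact (over_eq (mapBase_toBase 1 (str (Spec (CommRingCat.of R)) d)) x).trans h1

end closed

section lim

/-- base change of a limit of étale schemes -/
theorem isEtLim_itMap {S' S : Scheme.{u}} {g : S' ⟶ S} (hg : IsEtLim g) (d : ℕ) : IsEtLim (itMap g d) := by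
  have h1 := (isPullback_itMap g d)
  have h2 := (hg.pullback (str S d)).iso_comp h1.isoPullback
  have h3 : h1.isoPullback.hom ≫ pullback.fst _ _ = itMap g d := h1.isoPullback_hom_fst
  rwa [h3] at h2

theorem range_of_isPullback {X Y Z W : Scheme.{u}} {g : X ⟶ Y} {s : X ⟶ Z} {c : Y ⟶ W} {η : Z ⟶ W}
    (h : IsPullback g s c η) : Set.range g = c ⁻¹' Set.range η := by
  rw [← h.isoPullback_hom_fst, ← Scheme.Pullback.range_fst]
  ext y
  constructor
  · rintro ⟨w, rfl⟩
    exact ⟨h.isoPullback.hom w, rfl⟩
  · rintro ⟨w, rfl⟩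
    refine ⟨h.isoPullback.inv w, ?_⟩
    have := congrArg (fun f : pullback c η ⟶ pullback c η => f w) h.isoPullback.inv_hom_id
    exact congrArg (pullback.fst c η) this

end lim

section dvr

variable (R : Type u) [CommRing R] [IsDomain R] [IsDiscreteValuationRing R]

/-- The geometric generic point. -/
noncomputable abbrev gen : Spec (CommRingCat.of (SeparableClosure (FractionRing R))) ⟶ Spec (CommRingCat.of R) :=
  toBase R (SeparableClosure (FractionRing R))

theorem isEtLim_gen : IsEtLim (gen R) :=
  isEtLim_toBase R (FractionRing R) (SeparableClosure (FractionRing R))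

theorem mem_range_gen (s : Spec (CommRingCat.of R)) (hs : s ≠ closedPoint R) : s ∈ Set.range (gen R) := by
  let s' : PrimeSpectrum R := s
  have h0 : s'.asIdeal = ⊥ := by
    by_contra h1
    have h2 : s'.asIdeal.IsMaximal := Ring.DimensionLEOne.maximalOfPrime h1 s'.2
    exact hs (PrimeSpectrum.ext (IsLocalRing.eq_maximalIdeal h2))
  refine ⟨(⊥ : PrimeSpectrum (SeparableClosure (FractionRing R))), ?_⟩
  apply PrimeSpectrum.ext
  rw [show PrimeSpectrum.asIdeal s = ⊥ from h0]
  change Ideal.comap (algebraMap R (SeparableClosure (FractionRing R))) ⊥ = ⊥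
  rw [← RingHom.ker_eq_comap_bot, RingHom.ker_eq_bot_iff_eq_zero]
  intro x hx
  exact (injective_iff_map_eq_zero (algebraMap R (SeparableClosure (FractionRing R)))).1
    (Groth.Agent.Sga4h.BidGeoAlg.injective_algebraMap (A := R) (K := FractionRing R)
      (Ω := SeparableClosure (FractionRing R))) x hx

/-- **The family covering the non-closed points.** -/
theorem exists_family : ∃ (R' : Type u) (_ : CommRing R') (_ : IsDomain R') (_ : IsDiscreteValuationRing R')
    (_ : HenselianLocalRing R') (_ : IsSepClosed (ResidueField R')) (_ : R →+* R'), ∀ d : ℕ, ∃ (n : ℕ)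
      (g : Fin n → (It (Spec (CommRingCat.of R')) d ⟶ It (Spec (CommRingCat.of R)) (d + 1))),
      (∀ i, IsEtLim (g i)) ∧
      ∀ x : It (Spec (CommRingCat.of R)) (d + 1), (∀ i, x ∉ Set.range (g i)) →
        x ∉ Set.range (itMap (gen R) (d + 1)) →
        IsClosed ({x} : Set (It (Spec (CommRingCat.of R)) (d + 1))) := by
  obtain ⟨R', i1, i2, i3, i4, i5, φ, η, hη, hl, hcl⟩ := exists_gen R
  refine ⟨R', i1, i2, i3, i4, i5, φ, fun d => ?_⟩
  have hfin := finite_isCoord (Spec (CommRingCat.of R)) (d + 1)
  have := hfin.to_subtype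
  obtain ⟨n, ⟨e⟩⟩ := Finite.exists_equiv_fin
    {c : It (Spec (CommRingCat.of R)) (d + 1) ⟶ _ | IsCoord (Spec (CommRingCat.of R)) (d + 1) c}
  choose g hg using exists_isPullback (Spec.map (CommRingCat.ofHom φ)) η hη d
  refine ⟨n, fun i => g (e.symm i).1 (e.symm i).2, ?_, ?_⟩
  · intro i
    have h1 := hg (e.symm i).1 (e.symm i).2
    have h2 := (hl.pullback (e.symm i).1).iso_comp h1.isoPullback
    rwa [h1.isoPullback_hom_fst] at h2
  · intro x hx hx'
    have h0 : str (Spec (CommRingCat.of R)) (d + 1) x = closedPoint R := by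
      by_contra hne
      apply hx'
      rw [range_of_isPullback (isPullback_itMap (gen R) (d + 1))]
      exact mem_range_gen R _ hne
    apply isClosed_of_forall_coord _ x h0
    intro c hc
    apply hcl
    · rw [← Scheme.Hom.comp_apply, IsCoord.comp_toBase hc]
      exact h0
    · rintro ⟨z, hz⟩
      apply hx (e ⟨c, hc⟩)
      simp only [Equiv.symm_apply_apply]
      rw [range_of_isPullback (hg c hc)]
      exact ⟨z, hz⟩

end dvr

/-- Closed points of a proper scheme lie over closed points. -/
theorem over_closed {R : Type u} [CommRing R] [IsLocalRing R] {X : Scheme.{u}} (f : X ⟶ Spec (CommRingCat.of R))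
    [IsProper f] (x : X) (hx : IsClosed ({x} : Set X)) : f x = closedPoint R := by
  have h1 := f.isClosedMap _ hx
  rw [Set.image_singleton] at h1
  have h2 : (PrimeSpectrum.asIdeal (f x)).IsMaximal := (PrimeSpectrum.isClosed_singleton_iff_isMaximal _).1 h1
  exact PrimeSpectrum.ext (IsLocalRing.eq_maximalIdeal h2)

theorem isSepClosed_It {R : Type u} [CommRing R] [IsLocalRing R] [IsSepClosed (ResidueField R)] (d : ℕ)
    (x : It (Spec (CommRingCat.of R)) d) (hx : IsClosed ({x} : Set (It (Spec (CommRingCat.of R)) d))) :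
    IsSepClosed ((It (Spec (CommRingCat.of R)) d).residueField x) := by
  have := isProper_str (Spec (CommRingCat.of R)) d
  exact isSepClosed_residueField (str (Spec (CommRingCat.of R)) d) x hx (over_closed _ x hx)

end Groth.Agent.EtDual.K336.GeoFam
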