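import Groth.Agent.EtDual.K336.StrictAbs

/-!
# Complements on duality data

* `isZero_Q_D`: the dual of a zero object is zero;
* `nonempty_homUnitAdd`: `Hom(I, (D M)[i]) ≃+ Hom(M, I[i])` for a unit `I`;
* `nonempty_extHom`: `Ext^q(X, Y) ≃+ Hom_D(X[0], Y[0][q])`;
* `exists_iso_shift`: a complex with one cohomology object `H^m ≅ P` is isomorphic to `P[0][-m]`.
-/

set_option autoImplicit false
set_option backward.defeqAttrib.useBackward true
set_option backward.isDefEq.respectTransparency false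

universe w v₁ u₁ w'

namespace Groth.Agent.EtDual.K336.DPAbs

open CategoryTheory Category Limits HomologicalComplex CochainComplex Opposite ZeroObject Pretriangulated
open Groth.Agent.Sga4h.DualCx Groth.Agent.Sga4h.DualSelf Groth.Agent.Sga4h.Refl
open Groth.Agent.Sga4h Groth.Agent.Sga4h.BidGlobU DerivedCategory Groth.Agent.EtDual.K336.StrictAbs

section Basic

variable {C : Type u₁} [Category.{v₁} C] [Abelian C] [HasDerivedCategory.{w} C]

/-- `Ext^q(X, Y) ≃+ Hom_D(X[0], Y[0][q])`. -/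
theorem nonempty_extHom [HasExt.{w'} C] (X Y : C) (q : ℕ) :
    Nonempty (Abelian.Ext.{w'} X Y q ≃+ ((DerivedCategory.singleFunctor C 0).obj X ⟶
      ((DerivedCategory.singleFunctor C 0).obj Y)⟦(q : ℤ)⟧)) :=
  ⟨{ Abelian.Ext.homEquiv (X := X) (Y := Y) (n := q) with
      map_add' := fun a b => Abelian.Ext.add_hom a b }⟩

/-- `Hom_D(X[0], Y[0][q]) = 0` for `q < 0`. -/
theorem subsingleton_hom (X Y : C) (q : ℤ) (hq : q < 0) :
    Subsingleton ((DerivedCategory.singleFunctor C 0).obj X ⟶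
      ((DerivedCategory.singleFunctor C 0).obj Y)⟦q⟧) := by
  have hge : TStructure.t.IsGE (((DerivedCategory.singleFunctor C 0).obj Y)⟦q⟧) 1 := by
    have h1 : TStructure.t.IsGE (((DerivedCategory.singleFunctor C 0).obj Y)⟦q⟧) (-q) :=
      TStructure.t.isGE_shift _ 0 q (-q) (by lia)
    exact TStructure.t.isGE_of_ge _ 1 (-q) (by lia)
  have hle : TStructure.t.IsLE ((DerivedCategory.singleFunctor C 0).obj X) 0 :=
    inferInstanceAs (DerivedCategory.IsLE ((DerivedCategory.singleFunctor C 0).obj X) 0)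
  exact ⟨fun a b => (TStructure.t.zero_of_isLE_of_isGE a 0 1 (by lia) hle hge).trans
    (TStructure.t.zero_of_isLE_of_isGE b 0 1 (by lia) hle hge).symm⟩

/-- A complex with only one cohomology object. -/
theorem exists_iso_shift (X : DerivedCategory C) (P : C) (m : ℤ)
    (h0 : ∀ q : ℤ, q ≠ m → IsZero ((DerivedCategory.homologyFunctor C q).obj X))
    (e : Nonempty ((DerivedCategory.homologyFunctor C m).obj X ≅ P)) :
    Nonempty (X ≅ ((DerivedCategory.singleFunctor C 0).obj P)⟦-m⟧) := by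
  obtain ⟨e⟩ := e
  have h1 : X.IsGE m := (isGE_iff X m).2 fun i hi => h0 i (by lia)
  have h2 : X.IsLE m := (isLE_iff X m).2 fun i hi => h0 i (by lia)
  obtain ⟨Y, ⟨f⟩⟩ := exists_iso_singleFunctor_obj_of_isGE_of_isLE X m
  have e1 : (DerivedCategory.homologyFunctor C m).obj ((DerivedCategory.singleFunctor C m).obj Y) ≅ Y :=
    (DerivedCategory.homologyFunctor C m).mapIso ((DerivedCategory.singleFunctorIsoCompQ C m).app Y) ≪≫
      (homologyFunctorFactors C m).app _ ≪≫
      (HomologicalComplex.homologyFunctorSingleIso C (ComplexShape.up ℤ) m).app Y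
  have e2 : Y ≅ P := e1.symm ≪≫ ((DerivedCategory.homologyFunctor C m).mapIso f).symm ≪≫ e
  have e3 : ((DerivedCategory.singleFunctor C 0).obj P)⟦-m⟧ ≅ (DerivedCategory.singleFunctor C m).obj P :=
    ((DerivedCategory.singleFunctors C).shiftIso (-m) m 0 (by lia)).app P
  exact ⟨f ≪≫ (DerivedCategory.singleFunctor C m).mapIso e2 ≪≫ e3.symm⟩

end Basic

variable {C : Type u₁} [Category.{v₁} C] [Abelian C] [HasDerivedCategory.{w} C] {T : C ⥤ C ⥤ C} [T.Additive]
  [∀ X, (T.obj X).Additive]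
  [∀ (K₁ K₂ : CochainComplex C ℤ), CochainComplex.HasMapBifunctor K₁ K₂ T]
  [∀ E : CochainComplex C ℤ, (T.map₂CochainComplex.flip.obj E).IsLeftAdjoint]
  [∀ (J : Type), HasColimitsOfShape (Discrete J) C]
  [∀ (J : Type), (colim : (Discrete J ⥤ C) ⥤ C).PreservesMonomorphisms]

variable (A : DualData T)

/-- The dual of a zero object is zero. -/
theorem isZero_Q_D {K : CochainComplex C ℤ} (hK : IsZero (Q.obj K)) : IsZero (Q.obj (A.D K)) := by
  have := additive_DD A
  have h1 : IsZero (op (Q.obj K)) := hK.op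
  exact ((DD A).map_isZero h1).of_iso ((DDIso A).app (op K)).symm

/-- If `I` is a unit for `T` and `I[0] ⟶ A.J` is a quasi-isomorphism, then `Hom(I, (D M)[j]) ≃+ Hom(M, I[j])`. -/
theorem nonempty_homUnitAdd {I : C} (ρ : T.flip.obj I ≅ 𝟭 C)
    (j : (CochainComplex.singleFunctor C 0).obj I ⟶ A.J) (hj : QuasiIso j) (M : CochainComplex C ℤ) (i : ℤ) :
    Nonempty (((DerivedCategory.singleFunctor C 0).obj I ⟶ (DerivedCategory.Q.obj (A.D M))⟦i⟧) ≃+
      (DerivedCategory.Q.obj M ⟶ ((DerivedCategory.singleFunctor C 0).obj I)⟦i⟧)) := by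
  let I0 : CochainComplex C ℤ := (CochainComplex.singleFunctor C 0).obj I
  let S0 := (DerivedCategory.singleFunctor C 0).obj I
  let eS : S0 ≅ DerivedCategory.Q.obj I0 := (DerivedCategory.singleFunctorIsoCompQ C 0).app I
  have h3 : IsIso (BidPt.toDUnit ρ A) := BidPt.isIso_toDUnit ρ A
  have e3 : DerivedCategory.Q.obj (A.D I0) ≅ S0 :=
    (DerivedCategory.Q.mapIso (asIso (BidPt.toDUnit ρ A))).symm ≪≫
      (@asIso _ _ _ _ (DerivedCategory.Q.map j) ((DerivedCategory.isIso_Q_map_iff_quasiIso C j).2 hj)).symm ≪≫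
      eS.symm
  obtain ⟨e1⟩ := nonempty_selfAddEquiv_shift A M I0 i
  exact ⟨(homAddCongr eS (Iso.refl _)).trans
    (e1.trans (homAddCongr (Iso.refl _) ((CategoryTheory.shiftFunctor _ i).mapIso e3)))⟩

end Groth.Agent.EtDual.K336.DPAbs
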