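import Groth.Agent.EtDual.K336.DP

/-!
# The dual of `ip_* Λ`, from purity at the closed point

`A` strictly henselian local noetherian, `n` invertible in `A`, `Λ = ℤ/n`.
* `nonempty_dP`: if `Hom(ip_* Λ, Λ[q]) = 0` for `q ≠ m` and `≃+ ℤ/n` for `q = m` then `D (ip_* Λ) ≅ (ip_* Λ)[-m]`;
* `nonempty_dP_of_HY`: the same from `H^q_x(Spec A, ℤ/n) = 0` for `q ≠ c` and `≃+ ℤ/n` for `q = c`.
-/

set_option autoImplicit false
set_option linter.unusedSectionVars false
universe u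

open CategoryTheory CategoryTheory.Limits AlgebraicGeometry Opposite

attribute [local instance 5000] CategoryTheory.Abelian.toPreadditive
  CategoryTheory.Preadditive.preadditiveHasZeroMorphisms

namespace Groth.Agent.EtDual.K336.GlobS

attribute [local instance] HasDerivedCategory.standard
attribute [-instance] ULift.ring
open scoped Groth.Agent.Sga4h.ModInst
open Groth.Agent.Sga4h Groth.Agent.Sga4h.Refl DerivedCategory
open Groth.Agent.Sga4h.BidIndD48 Groth.Agent.Sga4h.BidIndLoc48 Groth.Agent.Sga4h.BidLoc48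
open Groth.Agent.Sga4h.BidRed538Main Groth.Agent.EtDual.K336.StrictS Groth.Agent.EtDual.K336.StrictAbs

section Point

variable {k : Type u} [Field k] [IsSepClosed k] {n : ℕ}

/-- A sheaf on a separably closed point without sections is zero. -/
theorem isZero_of_Γ (M : EtModW.Mod (Lam.{u} n) (Spec (CommRingCat.of k)))
    (h : Subsingleton (EtModW.sect (Lam.{u} n) M (EtCoh.top _))) : IsZero M := by
  rw [IsZero.iff_id_eq_zero]
  apply (ModPoint.Γ (Lam.{u} n) (Spec (CommRingCat.of k))).map_injective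
  ext x
  exact h.elim _ _

/-- A sheaf on a separably closed point with sections `ℤ/n` is constant. -/
theorem nonempty_of_Γ (M : EtModW.Mod (Lam.{u} n) (Spec (CommRingCat.of k)))
    (h : Nonempty (EtModW.sect (Lam.{u} n) M (EtCoh.top _) ≃+ ZMod n)) :
    Nonempty (M ≅ EtModW.constMod (Lam.{u} n) (Spec (CommRingCat.of k)) (Lam.{u} n)) := by
  obtain ⟨e⟩ := h
  let Γκ := ModPoint.Γ (Lam.{u} n) (Spec (CommRingCat.of k))
  let e3 : ModuleCat.of (Lam.{u} n) (Lam.{u} n) ≅ Γκ.obj (EtModW.constMod (Lam.{u} n) _ (Lam.{u} n)) :=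
    asIso ((ModPoint.constAdj (Lam.{u} n) (Spec (CommRingCat.of k))).unit.app (ModuleCat.of (Lam.{u} n) (Lam.{u} n)))
  let l : (Γκ.obj M : Type (u + 1)) ≃ₗ[Lam.{u} n] (Lam.{u} n) :=
    { (e.trans AddEquiv.ulift.symm : EtModW.sect (Lam.{u} n) M (EtCoh.top _) ≃+ ULift.{u + 1} (ZMod n)) with
      map_smul' := fun r x => by
        obtain ⟨k, hk⟩ := ZMod.intCast_surjective r.down
        obtain rfl : ((k : ℤ) : Lam.{u} n) = r := ULift.down_injective hk
        apply ULift.down_injective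
        change e (((k : ℤ) : Lam.{u} n) • x) = ((k : ℤ) : ZMod n) * e x
        have h1 : (((k : ℤ) : Lam.{u} n) • x) = k • x := Int.cast_smul_eq_zsmul (Lam.{u} n) k x
        rw [h1, map_zsmul, zsmul_eq_mul] }
  exact ⟨Γκ.preimageIso (l.toModuleIso ≪≫ e3)⟩

end Point

variable {A : Type u} [CommRing A] [HenselianLocalRing A] [IsSepClosed (IsLocalRing.ResidueField A)]
  {n : ℕ} [NeZero n]

/-- **The dual of `ip_* Λ`.** -/
theorem nonempty_dP [IsNoetherianRing A] (hn : IsUnit (n : A)) (m : ℤ)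
    (h0 : ∀ q : ℤ, q ≠ m → Subsingleton ((singleFunctor _ 0).obj (PP A (Lam.{u} n)) ⟶ ((singleFunctor _ 0).obj
        (EtModW.constMod (Lam.{u} n) (Spec (CommRingCat.of A)) (Lam.{u} n)))⟦q⟧))
    (h1 : Nonempty (((singleFunctor _ 0).obj (PP A (Lam.{u} n)) ⟶ ((singleFunctor _ 0).obj
        (EtModW.constMod (Lam.{u} n) (Spec (CommRingCat.of A)) (Lam.{u} n)))⟦m⟧) ≃+ ZMod n)) :
    Nonempty (Q.obj ((stdDual (Lam.{u} n) (Spec (CommRingCat.of A))).D
      ((CochainComplex.singleFunctor _ 0).obj (PP A (Lam.{u} n)))) ≅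
      (Q.obj ((CochainComplex.singleFunctor _ 0).obj (PP A (Lam.{u} n))))⟦-m⟧) := by
  exact GenD.nonempty_D (Λ := Lam.{u} n) (ip A) (nonempty_sect A) isZero_of_Γ nonempty_of_Γ (PP A (Lam.{u} n)) ⟨Iso.refl _⟩ _
    (fun q => nonempty_of_isZero_pull _ (isZero_pull_HP hn q)) (GenD.nonempty_homUnitAdd _) m h0 h1

/-- The underlying abelian sheaf of `Λ`. -/
noncomputable def abConst (X : Scheme.{u}) (n : ℕ) :
    (Etrest.ModAb.ab (Lam.{u} n) X).obj (EtModW.constMod (Lam.{u} n) X (Lam.{u} n)) ≅ EtCoh.const X (ZMod n) :=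
  (Etrest.ModAb.constIso (Lam.{u} n) X).app (ModuleCat.of (Lam.{u} n) (Lam.{u} n))

/-- **The dual of `ip_* Λ`, from the local cohomology at the closed point.** -/
theorem nonempty_dP_of_HY [IsNoetherianRing A] (hn : IsUnit (n : A)) {U : Scheme.{u}}
    (j : U ⟶ Spec (CommRingCat.of A)) [IsOpenImmersion j] [EtCoh.BCCont j]
    (hr : ∀ x, x ∈ Set.range j ↔ x ≠ IsLocalRing.closedPoint A) (c : ℕ)
    (h0 : ∀ q : ℕ, q ≠ c → Subsingleton ((EtDual.HY j q).obj (EtCoh.const _ (ZMod n)) : Type (u + 1)))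
    (h1 : Nonempty (((EtDual.HY j c).obj (EtCoh.const _ (ZMod n)) : Type (u + 1)) ≃+ ZMod n)) :
    Nonempty (Q.obj ((stdDual (Lam.{u} n) (Spec (CommRingCat.of A))).D
      ((CochainComplex.singleFunctor _ 0).obj (PP A (Lam.{u} n)))) ≅
      (Q.obj ((CochainComplex.singleFunctor _ 0).obj (PP A (Lam.{u} n))))⟦-(c : ℤ)⟧) := by
  have := isClosedImmersion_ip (A := A)
  have hr' : Set.range j = (Set.range (ip A))ᶜ := by
    ext x
    rw [hr, range_ip]
    rfl
  let cX := EtModW.constMod (Lam.{u} n) (Spec (CommRingCat.of A)) (Lam.{u} n)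
  have key : ∀ q : ℕ, Nonempty (((singleFunctor _ 0).obj (PP A (Lam.{u} n)) ⟶ ((singleFunctor _ 0).obj cX)⟦(q : ℤ)⟧) ≃+
      ((EtDual.HY j q).obj (EtCoh.const _ (ZMod n)) : Type (u + 1))) := by
    intro q
    obtain ⟨e0⟩ := nonempty_P' (A := A) (n := n)
    obtain ⟨e1⟩ := ExtPP.nonempty_HY j (ip A) hr' cX q
    obtain ⟨e2⟩ := DPAbs.nonempty_extHom.{_, _, _, u + 1} (ExtPP.P' (Lam.{u} n) (ip A)) cX q
    let e3 := ((EtDual.HY j q).mapIso (abConst (Spec (CommRingCat.of A)) n)).addCommGroupIsoToAddEquiv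
    exact ⟨(homAddCongr ((singleFunctor _ 0).mapIso e0.symm) (Iso.refl _)).trans (e2.symm.trans (e1.trans e3))⟩
  refine nonempty_dP hn (c : ℤ) (fun q hq => ?_) ?_
  · by_cases h : 0 ≤ q
    · obtain ⟨q, rfl⟩ := Int.eq_ofNat_of_zero_le h
      obtain ⟨e⟩ := key q
      have := h0 q (by exact_mod_cast hq)
      exact e.toEquiv.subsingleton
    · exact DPAbs.subsingleton_hom _ _ q (by omega)
  · obtain ⟨e⟩ := key c
    obtain ⟨e'⟩ := h1
    exact ⟨e.trans e'⟩

end Groth.Agent.EtDual.K336.GlobS
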