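import Groth.Agent.EtDual.K152.ExtU
import Groth.Agent.Sga4h.BidFin
import Groth.Agent.Sga4h.X144Shr
import Groth.Agent.Sga4h.H299.ExtBC
import Groth.Agent.Sga4h.LFinSupp
import Groth.Agent.Sga4B.ModExtU

/-!
# `Ext^q(b_* Λ, M)` and local cohomology

`b : Z ⟶ X` a closed immersion with open complement `j : U ⟶ X`, `M` a sheaf of `Λ`-modules:
`Ext^q_Λ(b_* b^* Λ, M) ≃+ Ext^q(K, M)` with `K = coker (ℤ_U ⟶ ℤ_X)`, hence `≃+ H^q_Z(X, M)` (`nonempty_extK`,
`nonempty_HY`), and `≃+ H^{q-1}(U, M)` if `X` is acyclic (`nonempty_extU`).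
-/

set_option autoImplicit false
universe u

open CategoryTheory CategoryTheory.Limits CategoryTheory.Abelian AlgebraicGeometry Opposite

namespace Groth.Agent.EtDual.K336.ExtPP

open Groth.Agent.Sga4h Groth.Agent.Sga4h.ModRestr Groth.Agent.Sga4h.EtaleRes Groth.Agent.Etrest.ModAb
  Groth.Agent.Etcore.ExtMap
  Groth.Agent.Sga4h.HYRestr Groth.Agent.Sga4h.KerSect K152.LocExt K152.ExtU Groth.Agent.CurvesA.SiteZU
open scoped Groth.Agent.Etcore.EtInst

variable {Λ : Type (u + 1)} [CommRing Λ] {X U Z : Scheme.{u}}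

/-- `Ext^q_Λ(Λ_X, F) = H^q(X, F)`, additively. -/
noncomputable def extConstAddEquiv (F : EtModW.Mod Λ X) (q : ℕ) :
    Ext.{u + 1} (EtModW.constMod Λ X Λ) F q ≃+ EtCoh.H X ((ab Λ X).obj F) q :=
  (AddEquiv.ofBijective (extMap (ab Λ X) (Sga4B.ModExtU.secMap (EtCoh.top X) (BidFin.one Λ X)) F q)
    (Sga4B.ModExtU.bijective_extMap (EtCoh.top X) Λ (EtModW.constMod Λ X Λ) (BidFin.one Λ X)
      (BidFin.bijective_one Λ) F q)).trans
    (Sga4B.HTools.extPrecomp (Sga4B.JFComp.topIso ℤ X).symm ((ab Λ X).obj F) q)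

/-- Injective sheaves of modules are acyclic. -/
theorem subsingleton_H_ab (I : EtModW.Mod Λ X) [Injective I] (q : ℕ) :
    Subsingleton (EtCoh.H X ((ab Λ X).obj I) (q + 1)) := by
  have h : Subsingleton (Ext.{u + 1} (EtModW.constMod Λ X Λ) I (q + 1)) :=
    subsingleton_of_forall_eq 0 fun e => Ext.eq_zero_of_injective e
  exact (extConstAddEquiv I (q + 1)).symm.toEquiv.subsingleton

theorem map_of_comp (F : EtCoh.Ab X) {A B C : X.Etale} (a : A ⟶ B) (b : B ⟶ C) (c : A ⟶ C) (h : a ≫ b = c)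
    (s : EtCoh.sect F C) : F.obj.map c.op s = F.obj.map a.op (F.obj.map b.op s) := by
  subst h
  exact congrArg (fun k => k.hom s) (F.obj.map_comp b.op a.op)

theorem map_of_id (F : EtCoh.Ab X) {A : X.Etale} (a : A ⟶ A) (h : a = 𝟙 A) (s : EtCoh.sect F A) :
    F.obj.map a.op s = s := by
  subst h
  exact congrArg (fun k => k.hom s) (F.obj.map_id (op A))

section open_

variable (j : U ⟶ X) [IsOpenImmersion j]

/-- A morphism `Λ ⟶ M` whose value at `1` vanishes on `U` restricts to zero on `U`. -/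
theorem res_eq_zero {M : EtModW.Mod Λ X} (g : EtModW.constMod Λ X Λ ⟶ M)
    (h : ((ab Λ X).obj M).obj.map (mU j).op (((ab Λ X).map g).hom.app (op (EtCoh.top X)) (BidFin.one Λ X)) = 0) :
    (res Λ j).map g = 0 := by
  have h1 : g ≫ (resPushAdj Λ j).unit.app M = 0 := by
    apply (BidFin.bijective_one Λ ((EtModW.push Λ j).obj ((res Λ j).obj M))).1
    dsimp only
    let s : EtCoh.sect ((ab Λ X).obj M) (EtCoh.top X) :=
      ((ab Λ X).map g).hom.app (op (EtCoh.top X)) (BidFin.one Λ X)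
    have h2 : ((ab Λ X).obj M).obj.map ((compBcAdj j).counit.app (EtCoh.top X)).op s = 0 := by
      let a : (EtShriek.compEtale j).obj ((EtCoh.bc j).obj (EtCoh.top X)) ⟶ obj j :=
        (EtShriek.compEtale j).map (bcTop j)
      have h3 : a ≫ mU j = (compBcAdj j).counit.app (EtCoh.top X) := (isTerminalTop X).hom_ext _ _
      refine (map_of_comp ((ab Λ X).obj M) a (mU j) _ h3 s).trans ?_
      have h4 : ((ab Λ X).obj M).obj.map (mU j).op s = 0 := h
      rw [h4]
      exact map_zero _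
    refine Eq.trans (b := ((ab Λ X).obj M).obj.map ((compBcAdj j).counit.app (EtCoh.top X)).op s) rfl ?_
    rw [h2, Functor.map_zero]
    rfl
  have h2 : (resPushAdj Λ j).unit.app (EtModW.constMod Λ X Λ) ≫ (EtModW.push Λ j).map ((res Λ j).map g) = 0 := by
    rw [← h1]
    exact ((resPushAdj Λ j).unit.naturality g).symm
  apply ((resPushAdj Λ j).homEquiv _ _).injective
  rw [Adjunction.homEquiv_unit, h2, Adjunction.homEquiv_unit, Functor.map_zero, comp_zero]

/-- Injective sheaves of modules are flasque. -/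
theorem flasque (I : EtModW.Mod Λ X) [Injective I] (s : EtCoh.sect ((ab Λ X).obj I) (obj j)) :
    ∃ t : EtCoh.sect ((ab Λ X).obj I) (EtCoh.top X), ((ab Λ X).obj I).obj.map (mU j).op t = s := by
  -- the corresponding section of `j_* j^* I`
  let s' : EtCoh.sect ((ab Λ X).obj ((EtModW.push Λ j).obj ((res Λ j).obj I))) (EtCoh.top X) :=
    ((ab Λ X).obj I).obj.map ((EtShriek.compEtale j).map (bcTop j)).op s
  obtain ⟨g, hg⟩ := (BidFin.bijective_one Λ ((EtModW.push Λ j).obj ((res Λ j).obj I))).2 s'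
  dsimp only at hg
  -- extend
  let φ : (res Λ j).obj (EtModW.constMod Λ X Λ) ⟶ (res Λ j).obj I := ((resPushAdj Λ j).homEquiv _ _).symm g
  let φ' : (ext Λ j).obj ((res Λ j).obj (EtModW.constMod Λ X Λ)) ⟶ I := ((extResAdj Λ j).homEquiv _ _).symm φ
  have hm := X144Shr.mono_counit Λ j (EtModW.constMod Λ X Λ)
  let ψ : EtModW.constMod Λ X Λ ⟶ I := Injective.factorThru φ' ((extResAdj Λ j).counit.app (EtModW.constMod Λ X Λ))
  have hψ : (extResAdj Λ j).counit.app (EtModW.constMod Λ X Λ) ≫ ψ = φ' := Injective.comp_factorThru _ _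
  have h1 : (res Λ j).map ψ = φ := by
    apply ((extResAdj Λ j).homEquiv _ _).symm.injective
    rw [Adjunction.homEquiv_counit]
    exact ((extResAdj Λ j).counit.naturality ψ).trans hψ
  have h2 : ψ ≫ (resPushAdj Λ j).unit.app I = g := by
    have h3 : (resPushAdj Λ j).homEquiv _ _ φ = g := Equiv.apply_symm_apply _ _
    rw [← h3, Adjunction.homEquiv_unit, ← h1]
    exact (resPushAdj Λ j).unit.naturality ψ
  refine ⟨((ab Λ X).map ψ).hom.app (op (EtCoh.top X)) (BidFin.one Λ X), ?_⟩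
  let t : EtCoh.sect ((ab Λ X).obj I) (EtCoh.top X) := ((ab Λ X).map ψ).hom.app (op (EtCoh.top X)) (BidFin.one Λ X)
  have h3 : ((ab Λ X).obj I).obj.map ((compBcAdj j).counit.app (EtCoh.top X)).op t = s' := by
    rw [← hg, ← h2]
    rfl
  have h4 : mU j = (EtShriek.compEtale j).map (topBc j) ≫ (compBcAdj j).counit.app (EtCoh.top X) :=
    (isTerminalTop X).hom_ext _ _
  have h5 : (EtShriek.compEtale j).map (topBc j) ≫ (EtShriek.compEtale j).map (bcTop j) = 𝟙 (obj j) := by
    rw [← Functor.map_comp]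
    have h6 : topBc j ≫ bcTop j = 𝟙 (EtCoh.top U) := (isTerminalTop U).hom_ext _ _
    rw [h6]
    exact (EtShriek.compEtale j).map_id _
  have h7 := map_of_comp ((ab Λ X).obj I) _ _ _ h4.symm t
  rw [h3] at h7
  refine h7.trans ?_
  refine (map_of_comp ((ab Λ X).obj I) _ _ _ rfl s).symm.trans ?_
  exact map_of_id ((ab Λ X).obj I) _ h5 s

/-- `Ext^{q+1}(K, I) = 0` for `I` an injective sheaf of modules. -/
theorem subsingleton_ext_K (I : EtModW.Mod Λ X) [Injective I] (q : ℕ) :
    Subsingleton (Ext.{u + 1} (K j) ((ab Λ X).obj I) (q + 1)) := by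
  rcases q with _ | q
  · exact subsingleton_one (subsingleton_H_ab I 0) (flasque j I)
  · have h1 : Injective ((res Λ j).obj I) := injective_res Λ j I
    exact subsingleton_succ (subsingleton_H_ab I (q + 1)) (subsingleton_H_ab ((res Λ j).obj I) q)

end open_

section closed

variable (j : U ⟶ X) [IsOpenImmersion j] (b : Z ⟶ X) [IsClosedImmersion b]
  (hr : Set.range j = (Set.range b)ᶜ)

include hr in
/-- The kernel of `F ⟶ b_* b^* F` is `j_! j^* F`. -/
theorem isIso_counit_closedSeq (F : EtModW.Mod Λ X) :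
    IsIso ((extResAdj Λ j).counit.app (LFinSupp.closedSeq b F).X₁) := by
  have hm := X144Shr.mono_counit Λ j (LFinSupp.closedSeq b F).X₁
  let ε := (extResAdj Λ j).counit.app (LFinSupp.closedSeq b F).X₁
  have hi : IsIso ((ModRestr.res Λ j).map ε) := X144Shr.isIso_res_counit Λ j _
  have h1 : IsZero ((EtModW.pull Λ j).obj (cokernel ε)) := by
    have h2 : IsZero ((ModRestr.res Λ j).obj (cokernel ε)) :=
      (isZero_cokernel_of_epi ((ModRestr.res Λ j).map ε)).of_iso (PreservesCokernel.iso (ModRestr.res Λ j) ε)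
    exact h2.of_iso ((H299.ExtBC.resPull Λ j).app _)
  have h2 : IsZero ((EtModW.pull Λ b).obj (cokernel ε)) := by
    have : Epi ((EtModW.pull Λ b).map (cokernel.π ε)) := inferInstance
    exact IsZero.of_epi ((EtModW.pull Λ b).map (cokernel.π ε)) (LFinSupp.isZero_pull_closedSeq b F)
  have h3 : IsZero (cokernel ε) := by
    refine LFinPull.isZero_of_pull (ι := Bool) (Z := fun i => match i with
        | true => U
        | false => Z) (fun i => match i with
        | true => j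
        | false => b) ?_ _ ?_
    · intro y
      by_cases hy : y ∈ Set.range b
      · exact ⟨false, hy⟩
      · refine ⟨true, ?_⟩
        change y ∈ Set.range j
        rw [hr]
        exact hy
    · intro i
      match i with
      | true => exact h1
      | false => exact h2
  have : Epi ε := Preadditive.epi_of_isZero_cokernel _ h3
  exact isIso_of_mono_of_epi ε

/-- `b_* b^* Λ`. -/
noncomputable abbrev P' (Λ : Type (u + 1)) [CommRing Λ] {X Z : Scheme.{u}} (b : Z ⟶ X) : EtModW.Mod Λ X :=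
  (EtModW.push Λ b).obj ((EtModW.pull Λ b).obj (EtModW.constMod Λ X Λ))

/-- The unit `Λ ⟶ b_* b^* Λ`. -/
noncomputable abbrev un (Λ : Type (u + 1)) [CommRing Λ] {X Z : Scheme.{u}} (b : Z ⟶ X) :
    EtModW.constMod Λ X Λ ⟶ P' Λ b := (Etcore.LPull.pullPushAdj (Λ := Λ) b).unit.app (EtModW.constMod Λ X Λ)

/-- The section `1` of `b_* b^* Λ`. -/
noncomputable def p (Λ : Type (u + 1)) [CommRing Λ] {X Z : Scheme.{u}} (b : Z ⟶ X) :
    EtCoh.sect ((ab Λ X).obj (P' Λ b)) (EtCoh.top X) :=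
  ((ab Λ X).map (un Λ b)).hom.app (op (EtCoh.top X)) (BidFin.one Λ X)

theorem map_p {M : EtModW.Mod Λ X} (f : P' Λ b ⟶ M) :
    ((ab Λ X).map f).hom.app (op (EtCoh.top X)) (p Λ b) =
      ((ab Λ X).map (un Λ b ≫ f)).hom.app (op (EtCoh.top X)) (BidFin.one Λ X) := rfl

include hr in
theorem p_res : ((ab Λ X).obj (P' Λ b)).obj.map (mU j).op (p Λ b) = 0 := by
  have h0 := LFinSupp.zeroOff_push_range b ((EtModW.pull Λ b).obj (EtModW.constMod Λ X Λ))
  let s : EtModW.sect Λ (P' Λ b) (obj j) := ((ab Λ X).obj (P' Λ b)).obj.map (mU j).op (p Λ b)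
  refine Etcore.LVan.eq_zero_of_van s fun x => h0 _ s x ?_
  have h1 : (obj j).hom x ∈ Set.range j := ⟨x, rfl⟩
  rw [hr] at h1
  exact h1

/-- The morphism `K ⟶ b_* b^* Λ`. -/
noncomputable def z : K j ⟶ (ab Λ X).obj (P' Λ b) :=
  kerSectEquiv (mU j) ((ab Λ X).obj (P' Λ b)) ⟨p Λ b, p_res j b hr⟩

theorem z_comp {M : EtModW.Mod Λ X} (f : P' Λ b ⟶ M)
    (h : ((ab Λ X).obj M).obj.map (mU j).op (((ab Λ X).map f).hom.app (op (EtCoh.top X)) (p Λ b)) = 0) :
    z j b hr ≫ (ab Λ X).map f = kerSectEquiv (mU j) ((ab Λ X).obj M)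
      ⟨((ab Λ X).map f).hom.app (op (EtCoh.top X)) (p Λ b), h⟩ := by
  have h1 := congrArg (fun k => k.hom (⟨p Λ b, p_res j b hr⟩ : (kerSect (mU j)).obj ((ab Λ X).obj (P' Λ b))))
    ((kerSectIsoCoyo (mU j)).hom.naturality ((ab Λ X).map f))
  exact h1.symm

include hr in
theorem res_p {M : EtModW.Mod Λ X} (f : P' Λ b ⟶ M) :
    ((ab Λ X).obj M).obj.map (mU j).op (((ab Λ X).map f).hom.app (op (EtCoh.top X)) (p Λ b)) = 0 := by
  have h1 := congrArg (fun k => k.hom (p Λ b)) (((ab Λ X).map f).hom.naturality (mU j).op)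
  refine Eq.trans h1.symm ?_
  change ((ab Λ X).map f).hom.app (op (obj j)) (((ab Λ X).obj (P' Λ b)).obj.map (mU j).op (p Λ b)) = 0
  rw [p_res j b hr]
  exact map_zero _

/-- **Comparison.** -/
theorem bijective_extMap_z (M : EtModW.Mod Λ X) (q : ℕ) :
    Function.Bijective (extMap (ab Λ X) (z j b hr) M q) := by
  refine bijective_of_effaceable (ab Λ X) (z j b hr) (fun _ => True) ?_ ?_ q M trivial
  · intro B _
    have hepi : Epi (un Λ b) := LFinSupp.epi_unit_closed b (EtModW.constMod Λ X Λ)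
    constructor
    · intro x y hxy
      obtain ⟨f, rfl⟩ := (Ext.mk₀_bijective (P' Λ b) B).2 x
      obtain ⟨g, rfl⟩ := (Ext.mk₀_bijective (P' Λ b) B).2 y
      rw [extMap_mk₀, extMap_mk₀] at hxy
      have h1 := (Ext.mk₀_bijective _ _).1 hxy
      rw [z_comp j b hr f (res_p j b hr f), z_comp j b hr g (res_p j b hr g)] at h1
      have h2 := congrArg Subtype.val ((kerSectEquiv (mU j) ((ab Λ X).obj B)).injective h1)
      have h3 : un Λ b ≫ f = un Λ b ≫ g := (BidFin.bijective_one Λ B).1 h2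
      rw [(cancel_epi (un Λ b)).1 h3]
    · intro y
      obtain ⟨c, rfl⟩ := (Ext.mk₀_bijective (K j) ((ab Λ X).obj B)).2 y
      obtain ⟨s, rfl⟩ := (kerSectEquiv (mU j) ((ab Λ X).obj B)).surjective c
      obtain ⟨g, hg⟩ := (BidFin.bijective_one Λ B).2 s.1
      dsimp only at hg
      have h1 : (res Λ j).map g = 0 := by
        apply res_eq_zero
        rw [hg]
        exact s.2
      have h2 : (LFinSupp.closedSeq b (EtModW.constMod Λ X Λ)).f ≫ g = 0 := by
        have hi := isIso_counit_closedSeq j b hr (EtModW.constMod Λ X Λ)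
        rw [← cancel_epi ((extResAdj Λ j).counit.app (LFinSupp.closedSeq b (EtModW.constMod Λ X Λ)).X₁), comp_zero]
        have h3 := (extResAdj Λ j).counit.naturality ((LFinSupp.closedSeq b (EtModW.constMod Λ X Λ)).f ≫ g)
        refine Eq.trans h3.symm ?_
        have h4 : (ModRestr.res Λ j).map ((LFinSupp.closedSeq b (EtModW.constMod Λ X Λ)).f ≫ g) = 0 := by
          refine ((ModRestr.res Λ j).map_comp _ _).trans ?_
          exact (congrArg (fun t => _ ≫ t) h1).trans comp_zero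
        rw [Functor.comp_map, h4, Functor.map_zero, zero_comp]
      have hS := LFinSupp.closedSeq_shortExact b (EtModW.constMod Λ X Λ)
      let f : P' Λ b ⟶ B := hS.gIsCokernel.desc (CokernelCofork.ofπ g h2)
      have hf : un Λ b ≫ f = g := hS.gIsCokernel.fac (CokernelCofork.ofπ g h2) WalkingParallelPair.one
      refine ⟨Ext.mk₀ f, ?_⟩
      rw [extMap_mk₀, z_comp j b hr f (res_p j b hr f)]
      congr 2
      apply Subtype.ext
      change ((ab Λ X).map f).hom.app (op (EtCoh.top X)) (p Λ b) = s.1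
      rw [map_p, hf, hg]
  · intro B _
    refine ⟨Injective.under B, cokernel (Injective.ι B), Injective.ι B, cokernel.π _,
      cokernel.condition _, { exact := ShortComplex.exact_cokernel _ }, trivial, trivial,
      fun n => ⟨?_, ?_⟩⟩
    · exact subsingleton_of_forall_eq 0 fun e => Ext.eq_zero_of_injective e
    · exact subsingleton_ext_K j (Injective.under B) n

include hr in
/-- `Ext^q_Λ(b_* b^* Λ, M) ≃+ Ext^q(K, M)`. -/
theorem nonempty_extK (M : EtModW.Mod Λ X) (q : ℕ) :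
    Nonempty (Ext.{u + 1} (P' Λ b) M q ≃+ Ext.{u + 1} (K j) ((ab Λ X).obj M) q) :=
  ⟨AddEquiv.ofBijective (extMap (ab Λ X) (z j b hr) M q) (bijective_extMap_z j b hr M q)⟩

include hr in
/-- `Ext^q_Λ(b_* b^* Λ, M) ≃+ H^q_Z(X, M)`. -/
theorem nonempty_HY [EtCoh.BCCont j] (M : EtModW.Mod Λ X) (q : ℕ) :
    Nonempty (Ext.{u + 1} (P' Λ b) M q ≃+ ((EtDual.HY j q).obj ((ab Λ X).obj M) : Type (u + 1))) := by
  obtain ⟨e1⟩ := nonempty_extK j b hr M q
  obtain ⟨e2⟩ := nonempty_HYIso j q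
  exact ⟨e1.trans (e2.app ((ab Λ X).obj M)).addCommGroupIsoToAddEquiv.symm⟩

end closed

end Groth.Agent.EtDual.K336.ExtPP
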