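import Groth.Agent.Sga4h.BidInd48
import Groth.Agent.Sga4h.BidIndLoc48

/-!
# The criteria of `BidCon48`, `BidConMod48`, `BidInd48` for noetherian schemes with separably closed closed points

The same statements as there, with `X` of finite type over a separably closed field replaced by `X` noetherian such that
the residue fields of the closed points are separably closed.
-/

set_option autoImplicit false
universe u

open CategoryTheory CategoryTheory.Limits AlgebraicGeometry Opposite TopologicalSpace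

namespace Groth.Agent.EtDual.K336.BidStepCon

attribute [local instance] HasDerivedCategory.standard

open Groth.Agent.Etbase Groth.Agent.Etcore Groth.Agent.EtpbcA Groth.Agent.EtpbcA.ConsVan
open Groth.Agent.EtpbcA.StalkTools Groth.Agent.EtpbcA.FinType Groth.Agent.EtpbcA.Present
open Groth.Agent.CurvesA.BdMap Groth.Agent.Sga4h

variable {X : Scheme.{u}}

/-- **Constructibility criterion** for abelian sheaves. -/
theorem isConstructible_of_pulls [IsNoetherian X]
    (hsep : ∀ x : X, IsClosed {x} → IsSepClosed (X.residueField x))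
    {n : ℕ} (hn : 0 < n) (F : EtCoh.Ab X) (hFn : EtCoh.KilledBy n F)
    {ι : Type*} [Finite ι] (X' : ι → Scheme.{u}) (g : ∀ i, X' i ⟶ X)
    [∀ i, CompactSpace (X' i)] [∀ i, QuasiSeparatedSpace (X' i)]
    (hcov : ∀ x : X, (∀ i, x ∉ Set.range (g i)) → IsClosed {x})
    (hF : ∀ i, EtPBC.IsConstructible ((EtCoh.pull (g i)).obj F))
    (h0 : Finite (EtCoh.sect F (EtCoh.top X)))
    (h1 : ∀ G : EtCoh.Ab X, EtCoh.KilledBy n G → EtPBC.IsConstructible G → Finite (EtCoh.H X G 1)) :
    EtPBC.IsConstructible F := by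
  have : NeZero n := ⟨hn.ne'⟩
  obtain ⟨b, hb⟩ := BidCon48.exists_fam F hFn X' g hF
  have hsrc : EtPBC.IsConstructible b.src := Present2.isConstructible_src hn b
  let φ : b.src ⟶ F := b.map
  have hker : EtPBC.IsConstructible (kernel φ) := NoethSub.isConstructible_of_mono (kernel.ι φ) hsrc
  have him : EtPBC.IsConstructible (Abelian.coimage φ) :=
    ConsExact.isConstructible_cokernel _ hker hsrc
  have him' : EtPBC.IsConstructible (Abelian.image φ) :=
    StrataGlob.isConstructible_of_iso (asIso (Abelian.coimageImageComparison φ)) him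
  let S : ShortComplex (EtCoh.Ab X) := ShortComplex.mk (Abelian.image.ι φ) (cokernel.π φ)
    (Abelian.image_ι_comp_eq_zero (cokernel.condition φ))
  have hS : S.ShortExact := {
    exact := ShortComplex.exact_of_f_is_kernel _ (kernelIsKernel (cokernel.π φ))
    mono_f := inferInstanceAs (Mono (Abelian.image.ι φ))
    epi_g := inferInstanceAs (Epi (cokernel.π φ)) }
  refine ConsExact.isConstructible_extension hS him' ?_
  refine BidConSky48.isConstructible_of_finite hsep
    _ (fun U s v hv => ?_) (BidCon48.finite_sect_of_shortExact hS h0 (h1 _ ?_ him'))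
  · obtain ⟨i, hi⟩ : ∃ i, U.hom v ∈ Set.range (g i) := by
      by_contra h
      exact hv (hcov _ fun i hi => h ⟨i, hi⟩)
    exact BidCon48.van_cokernel (g i) b.map (hb i) U s v hi
  · exact killedBy_of_mono (Abelian.image.ι φ) hFn

variable {Λ : Type (u + 1)} [CommRing Λ]

/-- **Constructibility criterion** for sheaves of modules. -/
theorem isConstructible_of_pulls_hom [Finite Λ] [IsNoetherian X]
    (hsep : ∀ x : X, IsClosed {x} → IsSepClosed (X.residueField x))
    {n : ℕ} (hn : 0 < n) (hΛ : (n : Λ) = 0) (F : EtModW.Mod Λ X)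
    {ι : Type*} [Finite ι] (X' : ι → Scheme.{u}) (g : ∀ i, X' i ⟶ X)
    [∀ i, CompactSpace (X' i)] [∀ i, QuasiSeparatedSpace (X' i)]
    (hcov : ∀ x : X, (∀ i, x ∉ Set.range (g i)) → IsClosed {x})
    (hF : ∀ i, EtModW.IsConstructible Λ ((EtModW.pull Λ (g i)).obj F))
    (h0 : Finite (EtModW.constMod Λ X Λ ⟶ F))
    (h1 : ∀ G : EtCoh.Ab X, EtCoh.KilledBy n G → EtPBC.IsConstructible G → Finite (EtCoh.H X G 1)) :
    EtModW.IsConstructible Λ F := by
  rw [Etcore.LFinite.isConstructible_iff_ab]
  exact isConstructible_of_pulls hsep hn _ (BidConMod48.killedBy_ab hΛ F) X' g hcov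
    (fun i => (BidConMod48.isConstructible_pull_ab_iff (g i) F).1 (hF i))
    (Finite.of_equiv _ (BidConMod48.homConstEquiv F)) h1

/-- Criterion for vanishing in terms of inverse images and global sections. -/
theorem isZero_of_pulls [IsNoetherian X]
    (hsep : ∀ x : X, IsClosed {x} → IsSepClosed (X.residueField x))
    {ι : Type*} (X' : ι → Scheme.{u}) (g : ∀ i, X' i ⟶ X)
    (hcov : ∀ x : X, (∀ i, x ∉ Set.range (g i)) → IsClosed {x}) (F : EtModW.Mod Λ X)
    (hF : ∀ i, IsZero ((EtModW.pull Λ (g i)).obj F)) (h0 : ∀ f : EtModW.constMod Λ X Λ ⟶ F, f = 0) :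
    IsZero F := by
  refine BidInd48.isZero_of_closed_points hsep F
    (fun U s u hu => ?_) (fun s => ?_)
  · obtain ⟨i, hi⟩ : ∃ i, U.hom u ∈ Set.range (g i) := by
      by_contra h
      exact hu (hcov _ fun i hi => h ⟨i, hi⟩)
    exact BidInd48.van_of_isZero_pull (g i) F (hF i) U s u hi
  · have : Subsingleton (EtModW.constMod Λ X Λ ⟶ F) := ⟨fun x y => (h0 x).trans (h0 y).symm⟩
    have := (BidConMod48.homConstEquiv F).symm.subsingleton
    exact Subsingleton.elim _ _

/-- Constructibility of the cohomology sheaves from the inverse images and finiteness of global cohomology. -/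
theorem isConstructible_HD [Finite Λ] [IsNoetherian X]
    (hsep : ∀ x : X, IsClosed {x} → IsSepClosed (X.residueField x))
    {n : ℕ} (hn : 0 < n) (hΛ : (n : Λ) = 0)
    {ι : Type*} [Finite ι] (X' : ι → Scheme.{u}) (g : ∀ i, X' i ⟶ X)
    [∀ i, CompactSpace (X' i)] [∀ i, QuasiSeparatedSpace (X' i)]
    (hcov : ∀ x : X, (∀ i, x ∉ Set.range (g i)) → IsClosed {x})
    (h1 : ∀ G : EtCoh.Ab X, EtCoh.KilledBy n G → EtPBC.IsConstructible G → Finite (EtCoh.H X G 1))
    (hfin : ∀ Z : EtModD.D Λ X, EtModD.IsDbc Z → ∀ n : ℤ,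
      Finite ((DerivedCategory.singleFunctor _ 0).obj (EtModW.constMod Λ X Λ) ⟶ Z⟦n⟧))
    (Y : EtModD.D Λ X) (b : ℤ) (hYb : Y.IsGE b)
    (hY : ∀ n : ℤ, Finite ((DerivedCategory.singleFunctor _ 0).obj (EtModW.constMod Λ X Λ) ⟶ Y⟦n⟧))
    (hpull : ∀ i q, EtModW.IsConstructible Λ ((EtModW.pull Λ (g i)).obj (EtModD.HD Y q))) (q : ℤ) :
    EtModW.IsConstructible Λ (EtModD.HD Y q) := by
  have key : ∀ m : ℕ, ∀ j : ℤ, j < b + m → EtModW.IsConstructible Λ (EtModD.HD Y j) := by
    intro m
    induction m with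
    | zero =>
      intro j hj
      have h0 : IsZero (EtModD.HD Y j) := DerivedCategory.isZero_of_isGE _ b j (by simpa using hj)
      exact BidInd48.isConstructible_of_isZero h0
    | succ m ih =>
      intro j hj
      by_cases hj' : j < b + m
      · exact ih j hj'
      · have hD : EtModD.IsDbc ((DerivedCategory.TStructure.t.truncLE (j - 1)).obj Y) :=
          BidInd48.isDbc_truncLE Y b (j - 1) hYb fun i hi => ih i (by push_cast at hj; lia)
        exact isConstructible_of_pulls_hom hsep hn hΛ _ X' g hcov (fun i => hpull i j)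
          (BidHom48.finite_hom_homology _ Y j (hY j) (hfin _ hD (j + 1))) h1
  exact key (q + 1 - b).toNat q (by lia)

/-- A morphism in `D^+` is an isomorphism if it becomes so after pulling back the cohomology sheaves along the
`g i` and on global cohomology. -/
theorem isIso_of_pulls [IsNoetherian X]
    (hsep : ∀ x : X, IsClosed {x} → IsSepClosed (X.residueField x))
    {ι : Type*} (X' : ι → Scheme.{u}) (g : ∀ i, X' i ⟶ X)
    (hcov : ∀ x : X, (∀ i, x ∉ Set.range (g i)) → IsClosed {x})
    {Y Z : EtModD.D Λ X} (φ : Y ⟶ Z) (b : ℤ) (hY : Y.IsGE b) (hZ : Z.IsGE b)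
    (h1 : ∀ i q, IsIso ((EtModW.pull Λ (g i)).map ((DerivedCategory.homologyFunctor _ q).map φ)))
    (h2 : ∀ n : ℤ, Function.Bijective
      (fun f : (DerivedCategory.singleFunctor _ 0).obj (EtModW.constMod Λ X Λ) ⟶ Y⟦n⟧ => f ≫ φ⟦n⟧')) :
    IsIso φ :=
  BidHom48.isIso_of_functors (fun i => EtModW.pull Λ (g i)) (EtModW.constMod Λ X Λ)
    (fun N hN hN' => isZero_of_pulls hsep X' g hcov N hN hN') φ b h1 h2

end Groth.Agent.EtDual.K336.BidStepCon
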