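import Groth.Agent.EtDual.K336.GlobDz
import Groth.Agent.EtDual.K336.GlobZ
import Groth.Agent.EtDual.K336.ExtPP

/-!
# The dual of `ip_* Λ`: support

`A` strictly henselian local noetherian, `n` invertible in `A`, `Λ = ℤ/n`. The cohomology sheaves of `D (ip_* Λ)` are
supported at the closed point (`nonempty_HP`).
-/

set_option autoImplicit false
set_option linter.unusedSectionVars false
universe u

open CategoryTheory CategoryTheory.Limits AlgebraicGeometry Opposite

attribute [local instance 5000] CategoryTheory.Abelian.toPreadditive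
  CategoryTheory.Preadditive.preadditiveHasZeroMorphisms

namespace Groth.Agent.EtDual.K336.GlobS

attribute [local instance] HasDerivedCategory.standard
attribute [-instance] ULift.ring
open scoped Groth.Agent.Sga4h.ModInst
open Groth.Agent.Sga4h Groth.Agent.Sga4h.Refl DerivedCategory
open Groth.Agent.Sga4h.BidIndD48 Groth.Agent.Sga4h.BidIndLoc48 Groth.Agent.Sga4h.BidLoc48
open Groth.Agent.Sga4h.BidRed538Main Groth.Agent.EtDual.K336.StrictS Groth.Agent.EtDual.K336.StrictAbs

variable {A : Type u} [CommRing A] [HenselianLocalRing A] [IsSepClosed (IsLocalRing.ResidueField A)]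
  {n : ℕ} [NeZero n]

theorem isClosedImmersion_ip : IsClosedImmersion (ip A) :=
  IsClosedImmersion.spec_of_surjective _ IsLocalRing.residue_surjective

/-- The two forms of `ip_* Λ`. -/
theorem nonempty_P' : Nonempty (ExtPP.P' (Lam.{u} n) (ip A) ≅ PP A (Lam.{u} n)) := by
  obtain ⟨e⟩ := LFinClass.nonempty_pull_constMod (Λ := Lam.{u} n) (M := Lam.{u} n) (ip A)
  exact ⟨(EtModW.push (Lam.{u} n) (ip A)).mapIso e⟩

/-- The inverse image of `ip_* Λ` to the complement of the closed point. -/
theorem isZero_pull_PP : IsZero ((EtModW.pull (Lam.{u} n) (Up A).ι).obj (PP A (Lam.{u} n))) := by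
  have := isClosedImmersion_ip (A := A)
  have h := LFinSupp.zeroOff_push_range (ip A) (EtModW.constMod (Lam.{u} n)
    (Spec (CommRingCat.of (IsLocalRing.ResidueField A))) (Lam.{u} n))
  refine h.isZero_pull (Up A).ι fun z hz => ?_
  have h1 : (Up A).ι z ∈ Set.range (Up A).ι := ⟨z, rfl⟩
  exact (Set.disjoint_left.1 (isCompl_ip (A := A)).disjoint) hz h1

/-- The cohomology sheaves of the dual of `ip_* Λ` vanish outside the closed point. -/
theorem isZero_pull_HP [IsNoetherianRing A] (hn : IsUnit (n : A)) (q : ℤ) :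
    IsZero ((EtModW.pull (Lam.{u} n) (Up A).ι).obj
      (EtModD.HD (Q.obj ((stdDual (Lam.{u} n) (Spec (CommRingCat.of A))).D
        ((CochainComplex.singleFunctor _ 0).obj (PP A (Lam.{u} n))))) q)) := by
  have hL : IsNoetherianRing (Lam.{u} n) := isNoetherianRing_Lam
  have hS : IsUnit (n : Γ(Spec (CommRingCat.of A), ⊤)) := by
    have := hn.map (Scheme.ΓSpecIso (CommRingCat.of A)).inv.hom
    rwa [map_natCast] at this
  have hN : IsNoetherian (Spec (CommRingCat.of A)) := inferInstance
  exact GenD.isZero_pull_HD_D (Λ := Lam.{u} n) (lam_zero n) (SmCmp.goodT_of_smooth (Up A).ι n hS) (PP A (Lam.{u} n))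
    isConstructible_PP isZero_pull_PP q

/-- A sheaf with vanishing inverse image to the complement of the closed point. -/
theorem nonempty_of_isZero_pull (F : EtModW.Mod (Lam.{u} n) (Spec (CommRingCat.of A)))
    (hF : IsZero ((EtModW.pull (Lam.{u} n) (Up A).ι).obj F)) :
    Nonempty (F ≅ (EtModW.push (Lam.{u} n) (ip A)).obj ((EtModW.pull (Lam.{u} n) (ip A)).obj F)) := by
  have := isClosedImmersion_ip (A := A)
  have h1 : LFinSupp.ZeroOff F (Set.range (ip A)) := by
    refine LFinSupp.ZeroOff.of_isZero_pull (ι := Unit) (Z := fun _ => _) (fun _ => (Up A).ι) (fun y hy => ⟨(), ?_⟩)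
      (fun _ => hF)
    have h2 : Set.range (Up A).ι = (Set.range (ip A))ᶜ := (isCompl_ip (A := A)).compl_eq.symm
    rw [h2]
    exact hy
  have h2 := LFinSupp.isIso_unit_of_zeroOff (ip A) F h1
  exact ⟨asIso ((Etcore.LPull.pullPushAdj (ip A)).unit.app F)⟩

end Groth.Agent.EtDual.K336.GlobS
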