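import Groth.Agent.Sga4h.ChartDVR
import Groth.Agent.Pi1.K154.Spread
import Groth.Agent.Sga4h.BidGeoIt

/-!
# The projective line over a discrete valuation ring: the strict localization at the generic point of the
special fibre, closed points
-/

set_option autoImplicit false

universe u

open CategoryTheory CategoryTheory.Limits AlgebraicGeometry IsLocalRing

namespace Groth.Agent.EtDual.K336.GeoP1

open Groth.Agent.Sga4h Groth.Agent.Sga4h.ChartDVR Groth.Agent.Sga5.ProjSmooth Groth.Agent.Sga5.ProjConn
  Groth.Agent.CohqB.ProjBC Groth.Agent.Dix.ProjProper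

/-- Limits of étale schemes in the two forms. -/
theorem isEtLim_conv {X' X Y : Scheme.{u}} (p : X ⟶ Y) [IsAffine Y] [IsSeparated p] {h : X' ⟶ X}
    (H : EtLim.IsEtLim h) : BidGeoLim.IsEtLim h := by
  obtain ⟨ι, _, _, _, D, π, hc, h1, h2, h3⟩ := H
  refine ⟨ιᵒᵖ, inferInstance, inferInstance, D ⋙ Over.forget X,
    { app := fun i => (D.obj i).hom
      naturality := fun i j f => (Over.w (D.map f)).trans (Category.comp_id _).symm },
    Cone.mk X' π, Iso.refl _, ⟨hc⟩, h1, fun i => ?_, fun i j f => ?_, fun i => ?_⟩
  · have := h2 i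
    have h4 : IsAffineHom ((D.obj i).hom ≫ p) := inferInstance
    exact IsAffineHom.of_comp (D.obj i).hom p
  · have h4 : IsAffine ((D ⋙ Over.forget X).obj i) := h2 i
    have h5 : IsAffine ((D ⋙ Over.forget X).obj j) := h2 j
    exact inferInstance
  · exact (Category.id_comp _).trans (h3 i)

section closed

variable {R : Type u} [CommRing R] [IsLocalRing R]

/-- A locally closed point over the closed point is closed. -/
theorem isClosed_of_isLocallyClosed {X : Scheme.{u}} (f : X ⟶ Spec (CommRingCat.of R))
    [LocallyOfFiniteType f] (x : X) (hx : f x = closedPoint R) (h3 : IsLocallyClosed ({x} : Set X)) :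
    IsClosed ({x} : Set X) := by
  have h4 : IsLocallyClosed ({f.asFiber x} : Set (f.fiber (f x))) := by
    have := h3.preimage (f.fiberι (f x)).continuous
    have h5 : (f.fiberι (f x)) ⁻¹' ({x} : Set X) = {f.asFiber x} := by
      ext z
      rw [Set.mem_preimage, Set.mem_singleton_iff, Set.mem_singleton_iff]
      constructor
      · intro hz
        apply (f.fiberι (f x)).isEmbedding.injective
        rw [hz, Scheme.Hom.fiberι_asFiber]
      · rintro rfl
        exact Scheme.Hom.fiberι_asFiber f x
    rwa [h5] at this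
  have h6 : IsClosed ({f.asFiber x} : Set (f.fiber (f x))) :=
    isClosed_singleton_of_isLocallyClosed_singleton h4
  have h7 : IsClosed (Set.range (f.fiberι (f x))) := by
    rw [Scheme.Hom.range_fiberι]
    apply IsClosed.preimage f.continuous
    rw [hx]
    exact (PrimeSpectrum.isClosed_singleton_iff_isMaximal _).2 (IsLocalRing.maximalIdeal.isMaximal R)
  have h8 := (Topology.IsClosedEmbedding.mk (f.fiberι (f x)).isEmbedding h7).isClosedMap _ h6
  rwa [Set.image_singleton, Scheme.Hom.fiberι_asFiber] at h8

theorem isClosed_image {X Y : Scheme.{u}} (f : X ⟶ Spec (CommRingCat.of R)) [LocallyOfFiniteType f]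
    (j : Y ⟶ X) [IsOpenImmersion j] (z : Y) (hz : f (j z) = closedPoint R) (hm : IsClosed ({z} : Set Y)) :
    IsClosed ({j z} : Set X) := by
  apply isClosed_of_isLocallyClosed f (j z) hz
  have := hm.isLocallyClosed.image j.isOpenEmbedding.isInducing j.isOpenEmbedding.isOpen_range.isLocallyClosed
  rwa [Set.image_singleton] at this

theorem isClosed_of_image {X Y : Scheme.{u}} (j : Y ⟶ X) [IsOpenImmersion j] (z : Y)
    (h : IsClosed ({j z} : Set X)) : IsClosed ({z} : Set Y) := by
  have h1 := h.preimage j.continuous
  convert h1 using 1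
  ext w
  rw [Set.mem_preimage, Set.mem_singleton_iff, Set.mem_singleton_iff]
  exact ⟨fun h => h ▸ rfl, fun h => j.isOpenEmbedding.injective h⟩

/-- the residue field of a closed point over the closed point -/
theorem isSepClosed_residueField [IsSepClosed (ResidueField R)] {X : Scheme.{u}} (f : X ⟶ Spec (CommRingCat.of R))
    [LocallyOfFiniteType f] (x : X) (hx : IsClosed ({x} : Set X)) (hfx : f x = closedPoint R) :
    IsSepClosed (X.residueField x) := by
  have h1 : IsClosedImmersion (X.fromSpecResidueField x) :=
    isClosed_singleton_iff_isClosedImmersion.1 hx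
  let φ : CommRingCat.of R ⟶ X.residueField x := Spec.preimage (X.fromSpecResidueField x ≫ f)
  have hφ : Spec.map φ = X.fromSpecResidueField x ≫ f := Spec.map_preimage _
  have h2 : LocallyOfFiniteType (Spec.map φ) := by
    rw [hφ]
    infer_instance
  have h3 : φ.hom.FiniteType := by
    rwa [HasRingHomProperty.Spec_iff (P := @LocallyOfFiniteType)] at h2
  have h4 : ∀ r ∈ maximalIdeal R, φ.hom r = 0 := by
    intro r hr
    let c : Spec (X.residueField x) := closedPoint (X.residueField x)
    have h5 : (Spec.map φ) c = closedPoint R := by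
      rw [hφ, Scheme.Hom.comp_apply, Scheme.fromSpecResidueField_apply, hfx]
    have h6 : r ∈ ((Spec.map φ) c).asIdeal := by
      rw [h5]
      exact hr
    have h7 : φ.hom r ∈ maximalIdeal (X.residueField x) := h6
    by_contra hne
    exact (mem_maximalIdeal _).1 h7 (isUnit_iff_ne_zero.2 hne)
  let ψ : ResidueField R →+* X.residueField x := Ideal.Quotient.lift (maximalIdeal R) φ.hom h4
  have h8 : ψ.comp (residue R) = φ.hom := by
    ext r
    rfl
  have h9 : ψ.FiniteType := by
    apply RingHom.FiniteType.of_comp_finiteType (f := residue R)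
    rw [h8]
    exact h3
  let _ := ψ.toAlgebra
  have : Algebra.FiniteType (ResidueField R) (X.residueField x) := h9
  have : Module.Finite (ResidueField R) (X.residueField x) :=
    finite_of_finite_type_of_isJacobsonRing (ResidueField R) (X.residueField x)
  exact Algebra.IsAlgebraic.isSepClosed (F := ResidueField R)

end closed

section poly

open Polynomial

variable (R : Type u) [CommRing R] [IsLocalRing R]

theorem ker_map_residue : RingHom.ker (Polynomial.mapRingHom (residue R)) = (maximalIdeal R).map C := by
  rw [Polynomial.ker_mapRingHom, ker_residue]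

theorem eq_or_isMaximal (p : Ideal R[X]) [hp : p.IsPrime] (h : (maximalIdeal R).map C ≤ p) :
    p = (maximalIdeal R).map C ∨ p.IsMaximal := by
  have hs : Function.Surjective (Polynomial.mapRingHom (residue R)) :=
    Polynomial.map_surjective _ IsLocalRing.residue_surjective
  have h1 : p = (p.map (Polynomial.mapRingHom (residue R))).comap (Polynomial.mapRingHom (residue R)) := by
    rw [Ideal.comap_map_of_surjective _ hs]
    have : Ideal.comap (Polynomial.mapRingHom (residue R)) ⊥ = (maximalIdeal R).map C := ker_map_residue R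
    rw [this, sup_eq_left.2 h]
  have h2 : (p.map (Polynomial.mapRingHom (residue R))).IsPrime := by
    apply Ideal.map_isPrime_of_surjective hs
    rw [ker_map_residue]
    exact h
  by_cases h3 : p.map (Polynomial.mapRingHom (residue R)) = ⊥
  · left
    rw [h1, h3]
    exact ker_map_residue R
  · right
    have h4 : (p.map (Polynomial.mapRingHom (residue R))).IsMaximal := IsPrime.to_maximal_ideal h3
    rw [h1]
    exact Ideal.comap_isMaximal_of_surjective _ hs

theorem not_isMaximal : ¬ ((maximalIdeal R).map (C : R →+* R[X])).IsMaximal := by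
  intro h
  have hs : Function.Surjective (Polynomial.mapRingHom (residue R)) :=
    Polynomial.map_surjective _ IsLocalRing.residue_surjective
  rw [← ker_map_residue] at h
  have h2 := RingHom.quotientKerEquivOfSurjective hs
  have h3 : IsField (R[X] ⧸ RingHom.ker (Polynomial.mapRingHom (residue R))) :=
    (Ideal.Quotient.maximal_ideal_iff_isField_quotient _).1 h
  exact Polynomial.not_isField _ (MulEquiv.isField h3 h2.symm.toMulEquiv)

end poly

section chart

variable (R : Type u) [CommRing R]

instance isAffineHom_chart (n : ℕ) (i : Fin (n + 1)) : IsAffineHom (chart n R i) := by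
  have h1 : IsSeparated (CohB1.ProjSpace.toSpec n R) := inferInstance
  have h2 : IsAffineHom (chart n R i ≫ CohB1.ProjSpace.toSpec n R) := by
    rw [chart_toSpec]
    infer_instance
  exact MorphismProperty.of_postcomp @IsAffineHom (chart n R i) (CohB1.ProjSpace.toSpec n R) h1 h2

/-- The affine line in the projective line. -/
noncomputable def lin (i : Fin 2) : Spec (CommRingCat.of (Polynomial R)) ⟶ CohB1.ProjSpace 1 R :=
  Spec.map (CommRingCat.ofHom ((MvPolynomial.uniqueAlgEquiv R (Fin 1) : MvPolynomial (Fin 1) R ≃ₐ[R]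
    Polynomial R).toRingEquiv.toRingHom)) ≫ chart 1 R i

instance isIso_lin : IsIso (Spec.map (CommRingCat.ofHom ((MvPolynomial.uniqueAlgEquiv R (Fin 1) :
    MvPolynomial (Fin 1) R ≃ₐ[R] Polynomial R).toRingEquiv.toRingHom))) := by
  have : IsIso (CommRingCat.ofHom ((MvPolynomial.uniqueAlgEquiv R (Fin 1) :
      MvPolynomial (Fin 1) R ≃ₐ[R] Polynomial R).toRingEquiv.toRingHom)) :=
    (ConcreteCategory.isIso_iff_bijective _).mpr
      (MvPolynomial.uniqueAlgEquiv R (Fin 1) : MvPolynomial (Fin 1) R ≃ₐ[R] Polynomial R).bijective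
  infer_instance

instance isOpenImmersion_lin (i : Fin 2) : IsOpenImmersion (lin R i) :=
  inferInstanceAs (IsOpenImmersion (_ ≫ chart 1 R i))

instance isAffineHom_lin (i : Fin 2) : IsAffineHom (lin R i) :=
  inferInstanceAs (IsAffineHom (_ ≫ chart 1 R i))

theorem lin_toSpec (i : Fin 2) : lin R i ≫ CohB1.ProjSpace.toSpec 1 R =
    Spec.map (CommRingCat.ofHom (Polynomial.C : R →+* Polynomial R)) := by
  rw [lin, Category.assoc, chart_toSpec, ← Spec.map_comp]
  congr 1
  apply CommRingCat.hom_ext
  apply RingHom.ext
  intro r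
  exact (MvPolynomial.uniqueAlgEquiv R (Fin 1) : MvPolynomial (Fin 1) R ≃ₐ[R] Polynomial R).commutes r

theorem range_lin (i : Fin 2) : Set.range (lin R i) = Set.range (chart 1 R i) := by
  ext y
  constructor
  · rintro ⟨z, rfl⟩
    exact ⟨_, rfl⟩
  · rintro ⟨z, rfl⟩
    obtain ⟨w, hw⟩ := (Spec.map (CommRingCat.ofHom ((MvPolynomial.uniqueAlgEquiv R (Fin 1) :
      MvPolynomial (Fin 1) R ≃ₐ[R] Polynomial R).toRingEquiv.toRingHom))).surjective z
    exact ⟨w, by rw [lin, Scheme.Hom.comp_apply, hw]⟩

theorem exists_mem_lin (y : CohB1.ProjSpace 1 R) : ∃ i, y ∈ Set.range (lin R i) := by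
  obtain ⟨i, hi⟩ := exists_mem_chart 1 R y
  exact ⟨i, by rw [range_lin]; exact hi⟩

variable [IsLocalRing R]

/-- The generic point of the special fibre in both charts. -/
theorem exists_common (i : Fin 2) : pmap (residue R) 1 (genPt 1 (ResidueField R)) ∈ Set.range (lin R i) := by
  rw [range_lin]
  change pmap (residue R) 1 (genPt 1 (ResidueField R)) ∈ (chart 1 R i).opensRange
  rw [opensRange_chart]
  have h1 : genPt 1 (ResidueField R) ∈ Proj.basicOpen (CohB1.polyGrading 1 (ResidueField R))
      (gmap (residue R) 1 (MvPolynomial.X i)) := by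
    have h2 := genPt_mem 1 (ResidueField R) i
    rw [opensRange_chart] at h2
    rwa [gmap_apply, MvPolynomial.map_X]
  exact h1

theorem toSpec_common : CohB1.ProjSpace.toSpec 1 R (pmap (residue R) 1 (genPt 1 (ResidueField R))) =
    closedPoint R := by
  rw [← Scheme.Hom.comp_apply, pmap_toSpec, Scheme.Hom.comp_apply]
  have h : ∀ z : PrimeSpectrum (ResidueField R), PrimeSpectrum.comap (residue R) z = closedPoint R := by
    intro z
    apply PrimeSpectrum.ext
    have h1 : z.asIdeal = ⊥ := by
      rcases Ideal.eq_bot_or_top z.asIdeal with h | h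
      · exact h
      · exact absurd h z.2.ne_top
    change Ideal.comap (residue R) z.asIdeal = maximalIdeal R
    rw [h1]
    exact ker_residue
  exact h _

/-- The generic point of the special fibre of the affine line. -/
noncomputable def spPt : Spec (CommRingCat.of (Polynomial R)) :=
  (⟨(maximalIdeal R).map Polynomial.C, by infer_instance⟩ : PrimeSpectrum (Polynomial R))

theorem le_of_over (z : Spec (CommRingCat.of (Polynomial R)))
    (hz : Spec.map (CommRingCat.ofHom (Polynomial.C : R →+* Polynomial R)) z = closedPoint R) :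
    (maximalIdeal R).map Polynomial.C ≤ PrimeSpectrum.asIdeal z := by
  rw [Ideal.map_le_iff_le_comap]
  have h1 := congrArg PrimeSpectrum.asIdeal hz
  exact (le_of_eq h1.symm)

theorem eq_spPt_or (z : Spec (CommRingCat.of (Polynomial R)))
    (hz : Spec.map (CommRingCat.ofHom (Polynomial.C : R →+* Polynomial R)) z = closedPoint R) :
    z = spPt R ∨ IsClosed ({z} : Set (Spec (CommRingCat.of (Polynomial R)))) := by
  have hp : (PrimeSpectrum.asIdeal z).IsPrime := z.2
  rcases eq_or_isMaximal R (PrimeSpectrum.asIdeal z) (le_of_over R z hz) with h | h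
  · left
    exact PrimeSpectrum.ext h
  · right
    exact (PrimeSpectrum.isClosed_singleton_iff_isMaximal _).2 h

theorem spPt_specializes (z : Spec (CommRingCat.of (Polynomial R)))
    (hz : Spec.map (CommRingCat.ofHom (Polynomial.C : R →+* Polynomial R)) z = closedPoint R) :
    spPt R ⤳ z := by
  let a : PrimeSpectrum (Polynomial R) := spPt R
  let b : PrimeSpectrum (Polynomial R) := z
  have h' : a ≤ b := le_of_over R z hz
  exact (PrimeSpectrum.le_iff_specializes a b).1 h'

theorem spPt_over : Spec.map (CommRingCat.ofHom (Polynomial.C : R →+* Polynomial R)) (spPt R) =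
    closedPoint R := by
  apply PrimeSpectrum.ext
  have h1 : maximalIdeal R ≤ Ideal.comap Polynomial.C ((maximalIdeal R).map Polynomial.C) := Ideal.le_comap_map
  have h2 : (Ideal.comap Polynomial.C ((maximalIdeal R).map (Polynomial.C : R →+* Polynomial R))).IsPrime := by
    infer_instance
  exact ((IsLocalRing.maximalIdeal.isMaximal R).eq_of_le h2.ne_top h1).symm

theorem lin_spPt_eq (i j : Fin 2) : lin R i (spPt R) = lin R j (spPt R) := by
  obtain ⟨w, hw⟩ := exists_common R i
  obtain ⟨w', hw'⟩ := exists_common R j
  have hover : Spec.map (CommRingCat.ofHom (Polynomial.C : R →+* Polynomial R)) w = closedPoint R := by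
    rw [← lin_toSpec R i, Scheme.Hom.comp_apply, hw, toSpec_common]
  have h1 : lin R i (spPt R) ⤳ lin R j w' := by
    rw [hw', ← hw]
    exact (spPt_specializes R w hover).map (lin R i).continuous
  obtain ⟨p, hp⟩ : lin R i (spPt R) ∈ Set.range (lin R j) :=
    h1.mem_open (lin R j).isOpenEmbedding.isOpen_range ⟨w', rfl⟩
  have hpo : Spec.map (CommRingCat.ofHom (Polynomial.C : R →+* Polynomial R)) p = closedPoint R := by
    rw [← lin_toSpec R j, Scheme.Hom.comp_apply, hp, ← Scheme.Hom.comp_apply, lin_toSpec, spPt_over]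
  rcases eq_spPt_or R p hpo with h | h
  · rw [← hp, h]
  · exfalso
    have h2 : IsClosed ({lin R i (spPt R)} : Set (CohB1.ProjSpace 1 R)) := by
      rw [← hp]
      apply isClosed_image (CohB1.ProjSpace.toSpec 1 R) (lin R j) p _ h
      rw [← Scheme.Hom.comp_apply, lin_toSpec, hpo]
    have h3 := isClosed_of_image (lin R i) _ h2
    exact not_isMaximal R ((PrimeSpectrum.isClosed_singleton_iff_isMaximal (spPt R)).1 h3)

/-- points of the special fibre of the projective line -/
theorem eq_or_isClosed (y : CohB1.ProjSpace 1 R) (hy : CohB1.ProjSpace.toSpec 1 R y = closedPoint R) :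
    y = lin R 0 (spPt R) ∨ IsClosed ({y} : Set (CohB1.ProjSpace 1 R)) := by
  obtain ⟨i, z, rfl⟩ := exists_mem_lin R y
  have hz : Spec.map (CommRingCat.ofHom (Polynomial.C : R →+* Polynomial R)) z = closedPoint R := by
    rw [← lin_toSpec R i, Scheme.Hom.comp_apply, hy]
  rcases eq_spPt_or R z hz with h | h
  · left
    rw [h, lin_spPt_eq R i 0]
  · right
    exact isClosed_image (CohB1.ProjSpace.toSpec 1 R) (lin R i) z hy h

end chart

section dvr

variable (R : Type u) [CommRing R] [IsDomain R] [IsDiscreteValuationRing R]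

/-- **The strict localization of the projective line at the generic point of the special fibre.** -/
theorem exists_gen : ∃ (R' : Type u) (_ : CommRing R') (_ : IsDomain R') (_ : IsDiscreteValuationRing R')
    (_ : HenselianLocalRing R') (_ : IsSepClosed (ResidueField R')) (φ : R →+* R')
    (g : Spec (CommRingCat.of R') ⟶ CohB1.ProjSpaceOver 1 (Spec (CommRingCat.of R))),
    g ≫ CohB1.ProjSpaceOver.toBase 1 (Spec (CommRingCat.of R)) = Spec.map (CommRingCat.ofHom φ) ∧
    BidGeoLim.IsEtLim g ∧ ∀ y : CohB1.ProjSpaceOver 1 (Spec (CommRingCat.of R)),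
      CohB1.ProjSpaceOver.toBase 1 (Spec (CommRingCat.of R)) y = closedPoint R → y ∉ Set.range g →
      IsClosed ({y} : Set (CohB1.ProjSpaceOver 1 (Spec (CommRingCat.of R)))) := by
  obtain ⟨S, _, _, _, _, hS, -⟩ := Hensel.Exist.exists_isStrictHenselization (Gauss R)
  let _ : Algebra (Polynomial R) S := ((algebraMap (Gauss R) S).comp (algebraMap (Polynomial R) (Gauss R))).toAlgebra
  have _ : IsScalarTower (Polynomial R) (Gauss R) S := IsScalarTower.of_algebraMap_eq fun a => rfl
  have _ : IsDomain S := isDomain_of_isStrictHenselization (Gauss R) S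
  have _ : IsDiscreteValuationRing S := isDiscreteValuationRing_of_isStrictHenselization (Gauss R) S
  have hstr := isStrictlyHenselianLocalRing_of_isStrictHenselization (Gauss R) S
  have hind : EtPBC.IsIndEtale (Polynomial R) S :=
    Proet.IndEtale.isIndEtale_trans (Polynomial R) (Gauss R) S
      (K154.Spread.isIndEtale_of_isLocalization (primeIdeal R).primeCompl _)
      (K154.Spread.isIndEtale_of_isStrictHenselization _ _)
  let g₀ : Spec (CommRingCat.of S) ⟶ Spec (CommRingCat.of (Polynomial R)) :=
    Spec.map (CommRingCat.ofHom (algebraMap (Polynomial R) S))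
  have hg₀ : BidGeoLim.IsEtLim g₀ := by
    have h1 := EtLim.isEtLim_of_isIndEtale hind (𝟙 _)
    rw [Category.comp_id] at h1
    exact isEtLim_conv (𝟙 _) h1
  let φ : R →+* S := (algebraMap (Polynomial R) S).comp Polynomial.C
  have hg0 : g₀ (closedPoint S) = spPt R := by
    apply PrimeSpectrum.ext
    have h1 : Ideal.comap (algebraMap (Gauss R) S) (maximalIdeal S) = maximalIdeal (Gauss R) :=
      ((IsLocalRing.local_hom_TFAE (algebraMap (Gauss R) S)).out 0 4).1
        (inferInstance : IsLocalHom (algebraMap (Gauss R) S))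
    have h2 : Ideal.comap (algebraMap (Polynomial R) (Gauss R)) (maximalIdeal (Gauss R)) = primeIdeal R :=
      IsLocalization.AtPrime.under_maximalIdeal (Gauss R) (primeIdeal R)
    change Ideal.comap ((algebraMap (Gauss R) S).comp (algebraMap (Polynomial R) (Gauss R))) (maximalIdeal S) = _
    rw [← Ideal.comap_comap, h1, h2]
    rfl
  let e := projSpaceOverIso 1 R
  refine ⟨S, inferInstance, inferInstance, inferInstance, hstr.1, hstr.2, φ, (g₀ ≫ lin R 0) ≫ e.inv, ?_,
    (hg₀.comp _).comp _, ?_⟩
  · rw [Category.assoc, projSpaceOverIso_inv_toBase, Category.assoc, lin_toSpec, ← Spec.map_comp]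
    rfl
  · intro y hy hy'
    have hee : ∀ w, e.inv (e.hom w) = w := fun w =>
      congrArg (fun f : CohB1.ProjSpaceOver 1 (Spec (CommRingCat.of R)) ⟶ _ => f w) e.hom_inv_id
    have h0 : CohB1.ProjSpace.toSpec 1 R (e.hom y) = closedPoint R := by
      rw [← Scheme.Hom.comp_apply, projSpaceOverIso_hom_toSpec, hy]
    rcases eq_or_isClosed R (e.hom y) h0 with h | h
    · exfalso
      apply hy'
      refine ⟨closedPoint S, ?_⟩
      change e.inv (lin R 0 (g₀ (closedPoint S))) = y
      rw [hg0, ← h, hee]
    · have h2 := h.preimage e.hom.continuous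
      convert h2 using 1
      ext z
      simp only [Set.mem_singleton_iff, Set.mem_preimage]
      constructor
      · rintro rfl; rfl
      · intro h
        have := congrArg e.inv h
        rwa [hee, hee] at this

end dvr

end Groth.Agent.EtDual.K336.GeoP1
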