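import Groth.Agent.Sga5.H845.InjDimQ
import Mathlib.CategoryTheory.Abelian.Injective.Dimension

/-!
# Injective dimension of sheaves of modules is tested on constructible sheaves
-/

set_option autoImplicit false
universe u

open CategoryTheory CategoryTheory.Limits CategoryTheory.Abelian AlgebraicGeometry Opposite

namespace Groth.Agent.EtDual.K336.InjBaer

open Groth.Agent.Sga5.H845 Groth.Agent.Sga5.H845.InjDimQ

attribute [local instance 5000] CategoryTheory.Abelian.toPreadditive
  CategoryTheory.Preadditive.preadditiveHasZeroMorphisms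

variable {Λ : Type (u + 1)} [CommRing Λ] {X : Scheme.{u}}

/-- `L` is injective if `Ext¹(F, L) = 0` for all constructible `F`. -/
theorem injective_of_constructible [IsNoetherianRing Λ] [IsLocallyNoetherian X] (L : EtModW.Mod Λ X)
    (h : ∀ F : EtModW.Mod Λ X, EtModW.IsConstructible Λ F → ∀ e : Ext.{u + 1} F L 1, e = 0) : Injective L := by
  refine FamBaer.injective_of_extends (isSeparating_affLM Λ X) L fun G hG A i _ f => ?_
  have hS : (ShortComplex.mk i (cokernel.π i) (cokernel.condition i)).ShortExact :=
    { exact := ShortComplex.exact_cokernel i }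
  have hc : EtModW.IsConstructible Λ (cokernel i) := isConstructible_quot hG (cokernel.π i)
  obtain ⟨x, hx⟩ := Ext.contravariant_sequence_exact₁ hS L (Ext.mk₀ f) (add_zero 1) (h _ hc _)
  obtain ⟨g, rfl⟩ := (Ext.homEquiv₀ (X := G) (Y := L)).symm.surjective x
  refine ⟨g, ?_⟩
  have h2 : (Ext.mk₀ i).comp (Ext.mk₀ g) (zero_add 0) = Ext.mk₀ f := hx
  rw [Ext.mk₀_comp_mk₀] at h2
  exact (Ext.mk₀_bijective _ _).1 h2

/-- The injective dimension of `L` is `≤ N` if `Ext^{N+1}(F, L) = 0` for all constructible `F`. -/
theorem hasInjectiveDimensionLT [IsNoetherianRing Λ] [IsLocallyNoetherian X] (N : ℕ) :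
    ∀ (L : EtModW.Mod Λ X) (_ : ∀ F : EtModW.Mod Λ X, EtModW.IsConstructible Λ F →
      ∀ e : Ext.{u + 1} F L (N + 1), e = 0), HasInjectiveDimensionLT L (N + 1) := by
  induction N with
  | zero =>
    intro L h
    exact (injective_iff_hasInjectiveDimensionLT_one).1 (injective_of_constructible L h)
  | succ N ih =>
    intro L h
    have hS : (ShortComplex.mk (Injective.ι L) (cokernel.π (Injective.ι L))
      (cokernel.condition (Injective.ι L))).ShortExact := { exact := ShortComplex.exact_cokernel _ }
    refine hS.hasInjectiveDimensionLT_X₁ (N + 1) (ih _ fun F hF e => ?_) ?_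
    · obtain ⟨x, hx⟩ := Ext.covariant_sequence_exact₃ F hS e (by lia : N + 1 + 1 = N + 2) (h F hF _)
      have h0 : x = 0 := Ext.eq_zero_of_injective x
      rw [← hx, h0, Ext.zero_comp]
    · have : HasInjectiveDimensionLT (Injective.under L) 1 := (injective_iff_hasInjectiveDimensionLT_one).1 inferInstance
      exact hasInjectiveDimensionLT_of_ge _ 1 _ (by lia)

end Groth.Agent.EtDual.K336.InjBaer
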