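import Groth.Agent.EtDual.K336.GlobBase
import Groth.Agent.EtDual.K336.InjBaer
import Groth.Agent.Sga2lef.H91.ModOf
import Groth.Agent.Sga4h.BidFin
import Groth.Agent.Sga4h.LFinClass

/-!
# Global duality for proper smooth schemes over a strictly local base

`S = Spec A`, `f : X ⟶ S` with relative duality in the form `Push Λ f e`: the data of `BidStep.GData` on `X` for
`Z = f⁻¹ (ip_* Λ)` except for `dz`.
-/

set_option autoImplicit false
set_option linter.unusedSectionVars false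
universe u

open CategoryTheory CategoryTheory.Limits AlgebraicGeometry Opposite

attribute [local instance 5000] CategoryTheory.Abelian.toPreadditive
  CategoryTheory.Preadditive.preadditiveHasZeroMorphisms

namespace Groth.Agent.EtDual.K336.GlobS

attribute [local instance] HasDerivedCategory.standard
attribute [-instance] ULift.ring
open scoped Groth.Agent.Sga4h.ModInst
open Groth.Agent.Sga4h Groth.Agent.Sga4h.Refl DerivedCategory
open Groth.Agent.Sga4h.BidIndD48 Groth.Agent.Sga4h.BidIndLoc48 Groth.Agent.Sga4h.BidLoc48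
open Groth.Agent.Sga4h.BidRed538Main Groth.Agent.EtDual.K336.StrictS Groth.Agent.EtDual.K336.StrictAbs

section Glob

variable {A : Type u} [CommRing A] [HenselianLocalRing A] [IsSepClosed (IsLocalRing.ResidueField A)]
  {n : ℕ} [NeZero n] {c e : ℤ} (B : BaseData A n c) {X : Scheme.{u}} (f : X ⟶ Spec (CommRingCat.of A))
  (hf : Push (Lam.{u} n) f e)

theorem nonempty_L0 : Nonempty ((singleFunctor _ 0).obj ((EtModW.pull (Lam.{u} n) f).obj
    (EtModW.constMod (Lam.{u} n) (Spec (CommRingCat.of A)) (Lam.{u} n))) ≅ L0 (Lam.{u} n) X) := by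
  obtain ⟨e⟩ := LFinClass.nonempty_pull_constMod (Λ := Lam.{u} n) (M := Lam.{u} n) f
  exact ⟨(singleFunctor _ 0).mapIso e⟩

include hf in
theorem fin (M : EtModD.D (Lam.{u} n) X) (hM : EtModD.IsDbc M) (i : ℤ) : Finite (L0 (Lam.{u} n) X ⟶ M⟦i⟧) := by
  obtain ⟨N, hN, -, h2⟩ := hf M hM
  obtain ⟨e1⟩ := h2 (EtModW.constMod (Lam.{u} n) (Spec (CommRingCat.of A)) (Lam.{u} n)) i
  obtain ⟨e2⟩ := nonempty_L0 (n := n) f
  have := finite_L0 N hN i
  exact Finite.of_equiv _ (e1.trans (Iso.homCongr e2 (Iso.refl _)))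

include hf B in
theorem t0 (M : EtModD.D (Lam.{u} n) X) (hM : EtModD.IsDbc M) (i : ℤ) : Finite (M ⟶ (L0 (Lam.{u} n) X)⟦i⟧) := by
  obtain ⟨N, hN, h1, -⟩ := hf M hM
  obtain ⟨e1⟩ := h1 (EtModW.constMod (Lam.{u} n) (Spec (CommRingCat.of A)) (Lam.{u} n)) (i - e)
  rw [show i - e + e = i by omega] at e1
  obtain ⟨e2⟩ := nonempty_L0 (n := n) f
  have := finite_homL0 B N hN (i - e)
  exact Finite.of_equiv _ (e1.trans (Iso.homCongr (Iso.refl _) ((shiftFunctor _ i).mapIso e2)))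

include hf B in
theorem t1 (M : EtModD.D (Lam.{u} n) X) (hM : EtModD.IsDbc M) (i : ℤ) :
    Nat.card (M ⟶ (L0 (Lam.{u} n) X)⟦i⟧) = Nat.card ((singleFunctor _ 0).obj (ZZ (n := n) f) ⟶ M⟦e + c - i⟧) := by
  obtain ⟨N, hN, h1, h2⟩ := hf M hM
  obtain ⟨e1⟩ := h1 (EtModW.constMod (Lam.{u} n) (Spec (CommRingCat.of A)) (Lam.{u} n)) (i - e)
  rw [show i - e + e = i by omega] at e1
  obtain ⟨e2⟩ := nonempty_L0 (n := n) f
  obtain ⟨e3⟩ := h2 (PP A (Lam.{u} n)) (e + c - i)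
  rw [← Nat.card_congr (e1.trans (Iso.homCongr (Iso.refl _) ((shiftFunctor _ i).mapIso e2))), card_L0 B N hN (i - e),
    show c - (i - e) = e + c - i by omega, Nat.card_congr e3]

include hf in
theorem t2 (M : EtModD.D (Lam.{u} n) X) (hM : EtModD.IsDbc M) (i : ℤ) :
    Nat.card (M ⟶ ((singleFunctor _ 0).obj (ZZ (n := n) f))⟦i⟧) = Nat.card (L0 (Lam.{u} n) X ⟶ M⟦e - i⟧) := by
  obtain ⟨N, hN, h1, h2⟩ := hf M hM
  obtain ⟨e1⟩ := h1 (PP A (Lam.{u} n)) (i - e)
  rw [show i - e + e = i by omega] at e1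
  obtain ⟨e2⟩ := nonempty_L0 (n := n) f
  obtain ⟨e3⟩ := h2 (EtModW.constMod (Lam.{u} n) (Spec (CommRingCat.of A)) (Lam.{u} n)) (e - i)
  rw [← Nat.card_congr e1, card_P N hN (i - e), show -(i - e) = e - i by omega,
    Nat.card_congr (e3.trans (Iso.homCongr e2 (Iso.refl _)))]

include hf in
theorem h1 (G : EtCoh.Ab X) (hG : EtCoh.KilledBy n G) (hG' : EtPBC.IsConstructible G) : Finite (EtCoh.H X G 1) := by
  obtain ⟨M, ⟨eM⟩⟩ := Sga2lef.H91.ModOf.exists_mod hG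
  have hM : EtModW.IsConstructible (Lam.{u} n) M :=
    (Etcore.LFinite.isConstructible_iff_ab M).2 (EtpbcA.StrataGlob.isConstructible_of_iso eM.symm hG')
  have hM' : EtModD.IsDbc ((singleFunctor (EtModW.Mod (Lam.{u} n) X) 0).obj M) :=
    ObjectProperty.prop_of_iso _ ((singleFunctorIsoCompQ _ 0).app M).symm ((Dbc323.isDbc_Q_single_iff _ 0).2 hM)
  have h2 := fin f hf _ hM' 1
  have h3 : Finite (Abelian.Ext.{u + 1} (EtModW.constMod (Lam.{u} n) X (Lam.{u} n)) M 1) :=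
    Finite.of_equiv _ (Abelian.Ext.homEquiv (X := EtModW.constMod (Lam.{u} n) X (Lam.{u} n)) (Y := M) (n := 1)).symm
  have h4 : Finite (EtCoh.H X ((Etrest.ModAb.ab (Lam.{u} n) X).obj M) 1) :=
    Finite.of_equiv _ (BidFin.extConstEquiv (Lam.{u} n) M 1)
  have h5 : Finite ((EtCoh.HF X 1).obj ((Etrest.ModAb.ab (Lam.{u} n) X).obj M)) := h4
  exact @Finite.of_equiv _ _ h5 ((EtCoh.HF X 1).mapIso eM).addCommGroupIsoToAddEquiv.toEquiv

include hf B in
/-- The constant sheaf has finite injective dimension. -/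
theorem injDim [IsNoetherian X] (N : ℕ) (hN : e + c = N) :
    HasInjectiveDimensionLT (EtModW.constMod (Lam.{u} n) X (Lam.{u} n)) (N + 1) := by
  refine InjBaer.hasInjectiveDimensionLT N _ fun F hF x => ?_
  have hM' : EtModD.IsDbc ((singleFunctor (EtModW.Mod (Lam.{u} n) X) 0).obj F) :=
    ObjectProperty.prop_of_iso _ ((singleFunctorIsoCompQ _ 0).app F).symm ((Dbc323.isDbc_Q_single_iff _ 0).2 hF)
  have h1 := t1 B f hf _ hM' ((N + 1 : ℕ) : ℤ)
  have h2 : Subsingleton ((singleFunctor _ 0).obj (ZZ (n := n) f) ⟶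
      ((singleFunctor (EtModW.Mod (Lam.{u} n) X) 0).obj F)⟦e + c - ((N + 1 : ℕ) : ℤ)⟧) := by
    have hge : TStructure.t.IsGE (((singleFunctor (EtModW.Mod (Lam.{u} n) X) 0).obj F)⟦e + c - ((N + 1 : ℕ) : ℤ)⟧) 1 :=
      TStructure.t.isGE_shift _ 0 _ 1 (by push_cast; omega)
    have hle : TStructure.t.IsLE ((singleFunctor _ 0).obj (ZZ (n := n) f)) 0 :=
      inferInstanceAs (DerivedCategory.IsLE ((singleFunctor _ 0).obj (ZZ (n := n) f)) 0)
    exact ⟨fun a b => (TStructure.t.zero_of_isLE_of_isGE a 0 1 (by omega) hle hge).trans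
      (TStructure.t.zero_of_isLE_of_isGE b 0 1 (by omega) hle hge).symm⟩
  have h4 : Nat.card ((singleFunctor _ 0).obj (ZZ (n := n) f) ⟶
      ((singleFunctor (EtModW.Mod (Lam.{u} n) X) 0).obj F)⟦e + c - ((N + 1 : ℕ) : ℤ)⟧) = 1 :=
    Nat.card_eq_one_iff_unique.2 ⟨h2, ⟨0⟩⟩
  have h3 := (Nat.card_eq_one_iff_unique.1 (h1.trans h4)).1
  exact (Abelian.Ext.homEquiv (X := F) (Y := EtModW.constMod (Lam.{u} n) X (Lam.{u} n)) (n := N + 1)).injective
    (@Subsingleton.elim _ h3 _ _)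

include hf B in
theorem bdd [IsNoetherian X] (N : ℕ) (hN : e + c = N) (K : CochainComplex (EtModW.Mod (Lam.{u} n) X) ℤ)
    (hK : EtModD.IsDbc (Q.obj K)) :
    ∃ a b : ℤ, (Q.obj ((stdDual (Lam.{u} n) X).D K)).IsGE a ∧ (Q.obj ((stdDual (Lam.{u} n) X).D K)).IsLE b := by
  obtain ⟨⟨a, b, ha, hb⟩, -⟩ := hK
  have := injDim B f hf N hN
  exact BidGlobU.exists_bounds (stdDual (Lam.{u} n) X) (stdι _ _) (quasiIso_stdι _ _) N
    (fun F q hq x => Abelian.Ext.eq_zero_of_hasInjectiveDimensionLT x (N + 1) (by omega)) K ha hb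

end Glob

end Groth.Agent.EtDual.K336.GlobS
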