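import Groth.Agent.EtDual.K336.GlobStep
import Groth.Agent.EtDual.K336.BidStepDbc

/-!
# Biduality on a proper smooth scheme over a strictly local base, with `Loc` hypotheses

* `bid_loc`: as `GlobS.bid`, for a finite family of morphisms `g i` with `Loc (stdDual X) (stdDual (X' i)) (g i)`;
* `bid_dbc`: for an arbitrary family, if the dual is known to be in `D^b_c`.
-/

set_option autoImplicit false
set_option linter.unusedSectionVars false
universe u

open CategoryTheory CategoryTheory.Limits AlgebraicGeometry Opposite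

attribute [local instance 5000] CategoryTheory.Abelian.toPreadditive
  CategoryTheory.Preadditive.preadditiveHasZeroMorphisms

namespace Groth.Agent.EtDual.K336.GlobS

attribute [local instance] HasDerivedCategory.standard
attribute [-instance] ULift.ring
open scoped Groth.Agent.Sga4h.ModInst
open Groth.Agent.Sga4h Groth.Agent.Sga4h.Refl DerivedCategory
open Groth.Agent.Sga4h.BidIndD48 Groth.Agent.Sga4h.BidIndLoc48 Groth.Agent.Sga4h.BidLoc48
open Groth.Agent.Sga4h.BidRed538Main Groth.Agent.EtDual.K336.StrictS Groth.Agent.EtDual.K336.StrictAbs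

variable {A : Type u} [CommRing A] [HenselianLocalRing A] [IsSepClosed (IsLocalRing.ResidueField A)]
  {n : ℕ} [NeZero n] {c e : ℤ} {X : Scheme.{u}} (f : X ⟶ Spec (CommRingCat.of A))

/-- **The induction step over a strictly local base**, for morphisms commuting with duality. -/
theorem bid_loc [IsNoetherianRing A] [IsNoetherian X] [Smooth f] (hn : IsUnit (n : A)) (B : BaseData A n c)
    (hf : Push (Lam.{u} n) f e) (N : ℕ) (hN : e + c = N)
    (hcl : ∀ x : X, IsClosed {x} → f x = IsLocalRing.closedPoint A)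
    (hsep : ∀ x : X, IsClosed {x} → IsSepClosed (X.residueField x))
    {ι : Type*} [Finite ι] (X' : ι → Scheme.{u}) (g : ∀ i, X' i ⟶ X)
    [∀ i, CompactSpace (X' i)] [∀ i, QuasiSeparatedSpace (X' i)]
    (hcov : ∀ x : X, (∀ i, x ∉ Set.range (g i)) → IsClosed {x})
    (hg : ∀ i, Loc (stdDual (Lam.{u} n) X) (stdDual (Lam.{u} n) (X' i)) (g i))
    (hB : ∀ i, Bid (stdDual (Lam.{u} n) (X' i))) : Bid (stdDual (Lam.{u} n) X) := by
  have hfin : Finite (Lam.{u} n) := inferInstance
  have hL : IsNoetherianRing (Lam.{u} n) := isNoetherianRing_Lam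
  exact BidStep.bid_of_loc hsep (NeZero.pos n) (lam_zero n) (stdDual (Lam.{u} n) X)
    (TensorUnit.tensorUnitRight (Lam.{u} n) X) (stdι _ _) (quasiIso_stdι _ _) (ZZ (n := n) f)
    (gdata f hn B hf N hN) (hZ f hcl) X' g hcov (fun i => stdDual (Lam.{u} n) (X' i)) hg hB

/-- **The induction step over a strictly local base**, the dual being known to be in `D^b_c`. -/
theorem bid_dbc [IsNoetherianRing A] [IsNoetherian X] [Smooth f] (hn : IsUnit (n : A)) (B : BaseData A n c)
    (hf : Push (Lam.{u} n) f e) (N : ℕ) (hN : e + c = N)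
    (hcl : ∀ x : X, IsClosed {x} → f x = IsLocalRing.closedPoint A)
    (hsep : ∀ x : X, IsClosed {x} → IsSepClosed (X.residueField x))
    (hPD : ∀ K : CochainComplex (EtModW.Mod (Lam.{u} n) X) ℤ, EtModD.IsDbc (Q.obj K) →
      EtModD.IsDbc (Q.obj ((stdDual (Lam.{u} n) X).D K)))
    {ι : Type*} (X' : ι → Scheme.{u}) (g : ∀ i, X' i ⟶ X)
    (hcov : ∀ x : X, (∀ i, x ∉ Set.range (g i)) → IsClosed {x})
    (hloc : ∀ (K : CochainComplex (EtModW.Mod (Lam.{u} n) X) ℤ), EtModD.IsDbc (Q.obj K) → ∀ (i : ι) (q : ℤ),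
      IsIso ((EtModW.pull (Lam.{u} n) (g i)).map
        (HomologicalComplex.homologyMap ((stdDual (Lam.{u} n) X).ev K) q))) :
    Bid (stdDual (Lam.{u} n) X) := by
  have hfin : Finite (Lam.{u} n) := inferInstance
  have hL : IsNoetherianRing (Lam.{u} n) := isNoetherianRing_Lam
  exact BidStepDbc.bid_of_loc_dbc hsep (stdDual (Lam.{u} n) X)
    (TensorUnit.tensorUnitRight (Lam.{u} n) X) (stdι _ _) (quasiIso_stdι _ _) (ZZ (n := n) f)
    (gdata f hn B hf N hN) (hZ f hcl) hPD X' g hcov hloc

end Groth.Agent.EtDual.K336.GlobS
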